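import Cfsg.Agent.Comp.ON.Main
import Cfsg.Agent.Comp.Trans

set_option autoImplicit false
set_option maxRecDepth 100000

namespace Cfsg.Agent.Comp.ON
open Cfsg.Agent.Comp

theorem st0 {bs : List ℕ} {m : ℕ} (h : BaseGe (genW (sig T) lowW1) bs m) :
    BaseGe (genW (sig T) (letters 8)) (0 :: bs) (122760 * m) :=
  BaseGe.step (W' := lowW1) (b := 0) (n := 122760) ok (le_of_subOK eqs (show subOK (letters 8) lowW1 E = true by decide +kernel)) (by decide +kernel)
    (le_ncard_of_ivl (a := 0) ok (by norm_num) (show Nat.beq (grow T (letters 8) [6, 1, 2, 3, 4, 6, 1, 3, 2, 5, 0, 1, 3, 4, 6, 2, 3, 6, 1, 4, 2, 6, 3, 1, 0, 6, 4, 2, 1, 3] (pt (nat_lit 0))) (ivl (nat_lit 0) (nat_lit 122760)) = true by decide +kernel)) h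

theorem st1 {bs : List ℕ} {m : ℕ} (h : BaseGe (genW (sig T) lowW2) bs m) :
    BaseGe (genW (sig T) lowW1) (1 :: bs) (5586 * m) :=
  BaseGe.step (W' := lowW2) (b := 1) (n := 5586) ok (le_of_subOK eqs (show subOK lowW1 lowW2 E = true by decide +kernel)) (by decide +kernel)
    (le_ncard_of_ivl (a := 1) ok (by norm_num) (show Nat.beq (grow T lowW1 [1, 0, 2, 3, 1, 2, 4, 1, 5, 3, 0, 2, 4, 1, 3, 0, 4, 5, 2, 3, 1, 4, 2, 0, 1, 3, 5, 0, 2, 4, 3, 1, 4, 2, 5, 3, 2, 4, 1, 3, 2, 3, 4] (pt (nat_lit 1))) (ivl (nat_lit 1) (nat_lit 5586)) = true by decide +kernel)) h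

theorem st2 {bs : List ℕ} {m : ℕ} (h : BaseGe (genW (sig T) []) bs m) :
    BaseGe (genW (sig T) lowW2) (320 :: bs) (672 * m) :=
  BaseGe.step (W' := []) (b := 320) (n := 672) ok (le_of_subOK eqs (show subOK lowW2 [] E = true by decide +kernel)) (by decide +kernel)
    (le_ncard_of_orbGe ok (by norm_num) (show orbGe (nat_lit 122760) (nat_lit 17) T lowW2 [0, 1, 2, 3, 4, 1, 2, 3, 1, 2, 1, 2, 3, 4, 3] (nat_lit 320) (nat_lit 672) = true by decide +kernel)) h

theorem cardR : Nat.card phi.range = 460815505920 := by rw [rep.range, rep.card_gen card.2.2, card.2.1]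

theorem base : IsBase phi.range [0, 1, 320] :=
  BaseGe.isBase (st0 (st1 (st2 (BaseGe.nil _)))) rep.range.ge (by rw [cardR]) (by norm_num)


end Cfsg.Agent.Comp.ON
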