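import Cfsg.Agent.Comp.ON.OutR
import Cfsg.Agent.Comp.ON.Base
import Cfsg.Agent.Comp.L37.Main
import Cfsg.Agent.Comp.SubKit

set_option autoImplicit false
set_option maxRecDepth 100000

namespace Cfsg.Agent.Comp.ON
open Cfsg.Agent.Comp

def twL37 : List (List Nat) :=
  [[1, 2, 1, 3, 2, 4, 3, 2, 1, 3, 2, 3, 2, 4, 3, 2, 3, 1, 2, 3, 4, 5, 3, 2, 3, 0],
   [3, 2, 1, 0, 3, 2, 1, 4, 3, 2, 1, 5, 4, 3, 2, 3, 4, 3, 1, 2, 3, 1, 2, 3, 4, 5, 3, 0],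
   [0, 3, 5, 4, 3, 2, 1, 3, 2, 1, 3, 4, 3, 2, 3, 4, 5, 1, 2, 3, 4, 1, 2, 3, 0, 1, 2, 3],
   [1, 3, 5, 4, 3, 2, 1, 3, 2, 1, 3, 4, 3, 2, 1, 3, 2, 3, 4, 5, 3, 1],
   [0, 1, 0, 5, 4, 3, 2, 1, 0, 3, 2, 3, 4, 3, 2, 1, 3, 2, 3, 4, 5, 0, 1, 0],
   [1, 0, 2, 1, 3, 4, 3, 5, 4, 3, 2, 1, 0, 3, 2, 4, 5, 1],
   [0, 4, 3, 2, 1, 3, 2, 4, 3, 2, 1, 3, 2, 3, 2, 4, 3, 1, 2, 3, 4, 0]]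

def eL37_0L : List (List Nat × List Nat) :=
  [([1, 2, 1, 3, 2, 4, 3, 2, 1, 3, 2, 3, 2, 4, 3, 2, 3, 1, 2, 3, 4, 5, 3, 2, 3, 0, 1, 2, 1, 3, 2, 4, 3, 2, 1, 3, 2, 3, 2, 4, 3, 2, 3, 1, 2, 3, 4, 5, 3, 2, 3, 0], []),
   ([3, 2, 1, 0, 3, 2, 1, 4, 3, 2, 1, 5, 4, 3, 2, 3, 4, 3, 1, 2, 3, 1, 2, 3, 4, 5, 3, 0, 0, 3, 5, 4, 3, 2, 1, 3, 2, 1, 3, 4, 3, 2, 3, 4, 5, 1, 2, 3, 4, 1, 2, 3, 0, 1, 2, 3], [])]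

theorem eL37_0 : ∀ e ∈ eL37_0L, ev (liftS phi (sig T)) e.1 = ev (liftS phi (sig T)) e.2 :=
  rep1.eqB inj base (by decide +kernel)

def eL37_1L : List (List Nat × List Nat) :=
  [([0, 3, 5, 4, 3, 2, 1, 3, 2, 1, 3, 4, 3, 2, 3, 4, 5, 1, 2, 3, 4, 1, 2, 3, 0, 1, 2, 3, 3, 2, 1, 0, 3, 2, 1, 4, 3, 2, 1, 5, 4, 3, 2, 3, 4, 3, 1, 2, 3, 1, 2, 3, 4, 5, 3, 0], []),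
   ([1, 3, 5, 4, 3, 2, 1, 3, 2, 1, 3, 4, 3, 2, 1, 3, 2, 3, 4, 5, 3, 1, 1, 3, 5, 4, 3, 2, 1, 3, 2, 1, 3, 4, 3, 2, 1, 3, 2, 3, 4, 5, 3, 1], []),
   ([0, 1, 0, 5, 4, 3, 2, 1, 0, 3, 2, 3, 4, 3, 2, 1, 3, 2, 3, 4, 5, 0, 1, 0, 0, 1, 0, 5, 4, 3, 2, 1, 0, 3, 2, 3, 4, 3, 2, 1, 3, 2, 3, 4, 5, 0, 1, 0], [])]

theorem eL37_1 : ∀ e ∈ eL37_1L, ev (liftS phi (sig T)) e.1 = ev (liftS phi (sig T)) e.2 :=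
  rep1.eqB inj base (by decide +kernel)

def eL37_2L : List (List Nat × List Nat) :=
  [([1, 0, 2, 1, 3, 4, 3, 5, 4, 3, 2, 1, 0, 3, 2, 4, 5, 1, 1, 0, 2, 1, 3, 4, 3, 5, 4, 3, 2, 1, 0, 3, 2, 4, 5, 1], []),
   ([0, 4, 3, 2, 1, 3, 2, 4, 3, 2, 1, 3, 2, 3, 2, 4, 3, 1, 2, 3, 4, 0, 0, 4, 3, 2, 1, 3, 2, 4, 3, 2, 1, 3, 2, 3, 2, 4, 3, 1, 2, 3, 4, 0], [])]

theorem eL37_2 : ∀ e ∈ eL37_2L, ev (liftS phi (sig T)) e.1 = ev (liftS phi (sig T)) e.2 :=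
  rep1.eqB inj base (by decide +kernel)

def eL37_3L : List (List Nat × List Nat) :=
  [([3, 2, 1, 0, 3, 2, 1, 4, 3, 2, 1, 5, 4, 3, 2, 3, 4, 3, 1, 2, 3, 1, 2, 3, 4, 5, 3, 0, 3, 2, 1, 0, 3, 2, 1, 4, 3, 2, 1, 5, 4, 3, 2, 3, 4, 3, 1, 2, 3, 1, 2, 3, 4, 5, 3, 0, 3, 2, 1, 0, 3, 2, 1, 4, 3, 2, 1, 5, 4, 3, 2, 3, 4, 3, 1, 2, 3, 1, 2, 3, 4, 5, 3, 0], [])]

theorem eL37_3 : ∀ e ∈ eL37_3L, ev (liftS phi (sig T)) e.1 = ev (liftS phi (sig T)) e.2 :=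
  rep1.eqB inj base (by decide +kernel)

def eL37_4L : List (List Nat × List Nat) :=
  [([1, 2, 1, 3, 2, 4, 3, 2, 1, 3, 2, 3, 2, 4, 3, 2, 3, 1, 2, 3, 4, 5, 3, 2, 3, 0, 3, 2, 1, 0, 3, 2, 1, 4, 3, 2, 1, 5, 4, 3, 2, 3, 4, 3, 1, 2, 3, 1, 2, 3, 4, 5, 3, 0, 1, 2, 1, 3, 2, 4, 3, 2, 1, 3, 2, 3, 2, 4, 3, 2, 3, 1, 2, 3, 4, 5, 3, 2, 3, 0, 0, 3, 5, 4, 3, 2, 1, 3, 2, 1, 3, 4, 3, 2, 3, 4, 5, 1, 2, 3, 4, 1, 2, 3, 0, 1, 2, 3], [])]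

theorem eL37_4 : ∀ e ∈ eL37_4L, ev (liftS phi (sig T)) e.1 = ev (liftS phi (sig T)) e.2 :=
  rep1.eqB inj base (by decide +kernel)

def eL37_5L : List (List Nat × List Nat) :=
  [([1, 2, 1, 3, 2, 4, 3, 2, 1, 3, 2, 3, 2, 4, 3, 2, 3, 1, 2, 3, 4, 5, 3, 2, 3, 0, 1, 3, 5, 4, 3, 2, 1, 3, 2, 1, 3, 4, 3, 2, 1, 3, 2, 3, 4, 5, 3, 1, 1, 2, 1, 3, 2, 4, 3, 2, 1, 3, 2, 3, 2, 4, 3, 2, 3, 1, 2, 3, 4, 5, 3, 2, 3, 0, 1, 3, 5, 4, 3, 2, 1, 3, 2, 1, 3, 4, 3, 2, 1, 3, 2, 3, 4, 5, 3, 1], [])]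

theorem eL37_5 : ∀ e ∈ eL37_5L, ev (liftS phi (sig T)) e.1 = ev (liftS phi (sig T)) e.2 :=
  rep1.eqB inj base (by decide +kernel)

def eL37_6L : List (List Nat × List Nat) :=
  [([3, 2, 1, 0, 3, 2, 1, 4, 3, 2, 1, 5, 4, 3, 2, 3, 4, 3, 1, 2, 3, 1, 2, 3, 4, 5, 3, 0, 1, 3, 5, 4, 3, 2, 1, 3, 2, 1, 3, 4, 3, 2, 1, 3, 2, 3, 4, 5, 3, 1, 0, 3, 5, 4, 3, 2, 1, 3, 2, 1, 3, 4, 3, 2, 3, 4, 5, 1, 2, 3, 4, 1, 2, 3, 0, 1, 2, 3, 1, 3, 5, 4, 3, 2, 1, 3, 2, 1, 3, 4, 3, 2, 1, 3, 2, 3, 4, 5, 3, 1], [])]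

theorem eL37_6 : ∀ e ∈ eL37_6L, ev (liftS phi (sig T)) e.1 = ev (liftS phi (sig T)) e.2 :=
  rep1.eqB inj base (by decide +kernel)

def eL37_7L : List (List Nat × List Nat) :=
  [([1, 2, 1, 3, 2, 4, 3, 2, 1, 3, 2, 3, 2, 4, 3, 2, 3, 1, 2, 3, 4, 5, 3, 2, 3, 0, 3, 2, 1, 0, 3, 2, 1, 4, 3, 2, 1, 5, 4, 3, 2, 3, 4, 3, 1, 2, 3, 1, 2, 3, 4, 5, 3, 0, 0, 1, 0, 5, 4, 3, 2, 1, 0, 3, 2, 3, 4, 3, 2, 1, 3, 2, 3, 4, 5, 0, 1, 0, 3, 2, 1, 0, 3, 2, 1, 4, 3, 2, 1, 5, 4, 3, 2, 3, 4, 3, 1, 2, 3, 1, 2, 3, 4, 5, 3, 0, 1, 2, 1, 3, 2, 4, 3, 2, 1, 3, 2, 3, 2, 4, 3, 2, 3, 1, 2, 3, 4, 5, 3, 2, 3, 0, 0, 1, 0, 5, 4, 3, 2, 1, 0, 3, 2, 3, 4, 3, 2, 1, 3, 2, 3, 4, 5, 0, 1, 0, 3, 2, 1, 0, 3, 2, 1, 4, 3, 2, 1, 5, 4, 3, 2, 3, 4, 3, 1, 2, 3,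 1, 2, 3, 4, 5, 3, 0, 1, 2, 1, 3, 2, 4, 3, 2, 1, 3, 2, 3, 2, 4, 3, 2, 3, 1, 2, 3, 4, 5, 3, 2, 3, 0, 0, 1, 0, 5, 4, 3, 2, 1, 0, 3, 2, 3, 4, 3, 2, 1, 3, 2, 3, 4, 5, 0, 1, 0], [])]

theorem eL37_7 : ∀ e ∈ eL37_7L, ev (liftS phi (sig T)) e.1 = ev (liftS phi (sig T)) e.2 :=
  rep1.eqB inj base (by decide +kernel)

def eL37_8L : List (List Nat × List Nat) :=
  [([1, 2, 1, 3, 2, 4, 3, 2, 1, 3, 2, 3, 2, 4, 3, 2, 3, 1, 2, 3, 4, 5, 3, 2, 3, 0, 0, 3, 5, 4, 3, 2, 1, 3, 2, 1, 3, 4, 3, 2, 3, 4, 5, 1, 2, 3, 4, 1, 2, 3, 0, 1, 2, 3, 1, 3, 5, 4, 3, 2, 1, 3, 2, 1, 3, 4, 3, 2, 1, 3, 2, 3, 4, 5, 3, 1, 0, 1, 0, 5, 4, 3, 2, 1, 0, 3, 2, 3, 4, 3, 2, 1, 3, 2, 3, 4, 5, 0, 1, 0, 1, 2, 1, 3, 2, 4, 3, 2, 1, 3, 2, 3, 2, 4, 3, 2, 3, 1,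 2, 3, 4, 5, 3, 2, 3, 0, 0, 1, 0, 5, 4, 3, 2, 1, 0, 3, 2, 3, 4, 3, 2, 1, 3, 2, 3, 4, 5, 0, 1, 0, 1, 3, 5, 4, 3, 2, 1, 3, 2, 1, 3, 4, 3, 2, 1, 3, 2, 3, 4, 5, 3, 1, 0, 3, 5, 4, 3, 2, 1, 3, 2, 1, 3, 4, 3, 2, 3, 4, 5, 1, 2, 3, 4, 1, 2, 3, 0, 1, 2, 3, 0, 1, 0, 5, 4, 3, 2, 1, 0, 3, 2, 3, 4, 3, 2, 1, 3, 2, 3, 4, 5, 0, 1, 0, 0, 3, 5, 4, 3, 2, 1, 3, 2, 1, 3, 4, 3, 2, 3, 4, 5, 1, 2, 3, 4, 1, 2, 3, 0, 1, 2, 3, 0, 1, 0, 5, 4, 3, 2, 1, 0, 3, 2, 3, 4, 3, 2, 1, 3, 2, 3, 4, 5, 0, 1, 0], [])]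

theorem eL37_8 : ∀ e ∈ eL37_8L, ev (liftS phi (sig T)) e.1 = ev (liftS phi (sig T)) e.2 :=
  rep1.eqB inj base (by decide +kernel)

def eL37_9L : List (List Nat × List Nat) :=
  [([3, 2, 1, 0, 3, 2, 1, 4, 3, 2, 1, 5, 4, 3, 2, 3, 4, 3, 1, 2, 3, 1, 2, 3, 4, 5, 3, 0, 1, 0, 2, 1, 3, 4, 3, 5, 4, 3, 2, 1, 0, 3, 2, 4, 5, 1, 3, 2, 1, 0, 3, 2, 1, 4, 3, 2, 1, 5, 4, 3, 2, 3, 4, 3, 1, 2, 3, 1, 2, 3, 4, 5, 3, 0, 1, 0, 2, 1, 3, 4, 3, 5, 4, 3, 2, 1, 0, 3, 2, 4, 5, 1], [])]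

theorem eL37_9 : ∀ e ∈ eL37_9L, ev (liftS phi (sig T)) e.1 = ev (liftS phi (sig T)) e.2 :=
  rep1.eqB inj base (by decide +kernel)

def eL37_10L : List (List Nat × List Nat) :=
  [([1, 2, 1, 3, 2, 4, 3, 2, 1, 3, 2, 3, 2, 4, 3, 2, 3, 1, 2, 3, 4, 5, 3, 2, 3, 0, 1, 3, 5, 4, 3, 2, 1, 3, 2, 1, 3, 4, 3, 2, 1, 3, 2, 3, 4, 5, 3, 1, 1, 0, 2, 1, 3, 4, 3, 5, 4, 3, 2, 1, 0, 3, 2, 4, 5, 1, 1, 2, 1, 3, 2, 4, 3, 2, 1, 3, 2, 3, 2, 4, 3, 2, 3, 1, 2, 3, 4, 5, 3, 2, 3, 0, 1, 0, 2, 1, 3, 4, 3, 5, 4, 3, 2, 1, 0, 3, 2, 4, 5, 1], [])]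

theorem eL37_10 : ∀ e ∈ eL37_10L, ev (liftS phi (sig T)) e.1 = ev (liftS phi (sig T)) e.2 :=
  rep1.eqB inj base (by decide +kernel)

def eL37_11L : List (List Nat × List Nat) :=
  [([1, 3, 5, 4, 3, 2, 1, 3, 2, 1, 3, 4, 3, 2, 1, 3, 2, 3, 4, 5, 3, 1, 0, 1, 0, 5, 4, 3, 2, 1, 0, 3, 2, 3, 4, 3, 2, 1, 3, 2, 3, 4, 5, 0, 1, 0, 1, 3, 5, 4, 3, 2, 1, 3, 2, 1, 3, 4, 3, 2, 1, 3, 2, 3, 4, 5, 3, 1, 1, 0, 2, 1, 3, 4, 3, 5, 4, 3, 2, 1, 0, 3, 2, 4, 5, 1, 0, 1, 0, 5, 4, 3, 2, 1, 0, 3, 2, 3, 4, 3, 2, 1, 3, 2, 3, 4, 5, 0, 1, 0, 1, 3, 5, 4, 3, 2, 1, 3, 2, 1, 3, 4, 3, 2, 1, 3, 2, 3, 4, 5, 3, 1, 1, 0, 2, 1, 3, 4, 3, 5, 4, 3, 2, 1, 0, 3, 2, 4, 5, 1, 0, 1, 0, 5, 4, 3, 2, 1, 0, 3, 2, 3, 4, 3, 2, 1, 3, 2, 3, 4, 5, 0, 1, 0, 1, 0,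 2, 1, 3, 4, 3, 5, 4, 3, 2, 1, 0, 3, 2, 4, 5, 1], [])]

theorem eL37_11 : ∀ e ∈ eL37_11L, ev (liftS phi (sig T)) e.1 = ev (liftS phi (sig T)) e.2 :=
  rep1.eqB inj base (by decide +kernel)

def eL37_12L : List (List Nat × List Nat) :=
  [([1, 2, 1, 3, 2, 4, 3, 2, 1, 3, 2, 3, 2, 4, 3, 2, 3, 1, 2, 3, 4, 5, 3, 2, 3, 0, 0, 4, 3, 2, 1, 3, 2, 4, 3, 2, 1, 3, 2, 3, 2, 4, 3, 1, 2, 3, 4, 0, 1, 3, 5, 4, 3, 2, 1, 3, 2, 1, 3, 4, 3, 2, 1, 3, 2, 3, 4, 5, 3, 1, 0, 4, 3, 2, 1, 3, 2, 4, 3, 2, 1, 3, 2, 3, 2, 4, 3, 1, 2, 3, 4, 0], [])]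

theorem eL37_12 : ∀ e ∈ eL37_12L, ev (liftS phi (sig T)) e.1 = ev (liftS phi (sig T)) e.2 :=
  rep1.eqB inj base (by decide +kernel)

def eL37_13L : List (List Nat × List Nat) :=
  [([3, 2, 1, 0, 3, 2, 1, 4, 3, 2, 1, 5, 4, 3, 2, 3, 4, 3, 1, 2, 3, 1, 2, 3, 4, 5, 3, 0, 0, 4, 3, 2, 1, 3, 2, 4, 3, 2, 1, 3, 2, 3, 2, 4, 3, 1, 2, 3, 4, 0, 3, 2, 1, 0, 3, 2, 1, 4, 3, 2, 1, 5, 4, 3, 2, 3, 4, 3, 1, 2, 3, 1, 2, 3, 4, 5, 3, 0, 0, 4, 3, 2, 1, 3, 2, 4, 3, 2, 1, 3, 2, 3, 2, 4, 3, 1, 2, 3, 4, 0], [])]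

theorem eL37_13 : ∀ e ∈ eL37_13L, ev (liftS phi (sig T)) e.1 = ev (liftS phi (sig T)) e.2 :=
  rep1.eqB inj base (by decide +kernel)

def eL37_14L : List (List Nat × List Nat) :=
  [([1, 0, 2, 1, 3, 4, 3, 5, 4, 3, 2, 1, 0, 3, 2, 4, 5, 1, 0, 4, 3, 2, 1, 3, 2, 4, 3, 2, 1, 3, 2, 3, 2, 4, 3, 1, 2, 3, 4, 0, 1, 0, 2, 1, 3, 4, 3, 5, 4, 3, 2, 1, 0, 3, 2, 4, 5, 1, 0, 4, 3, 2, 1, 3, 2, 4, 3, 2, 1, 3, 2, 3, 2, 4, 3, 1, 2, 3, 4, 0, 1, 0, 2, 1, 3, 4, 3, 5, 4, 3, 2, 1, 0, 3, 2, 4, 5, 1, 0, 4, 3, 2, 1, 3, 2, 4, 3, 2, 1, 3, 2, 3, 2, 4, 3, 1, 2, 3, 4, 0], [])]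

theorem eL37_14 : ∀ e ∈ eL37_14L, ev (liftS phi (sig T)) e.1 = ev (liftS phi (sig T)) e.2 :=
  rep1.eqB inj base (by decide +kernel)

def eL37_15L : List (List Nat × List Nat) :=
  [([3, 2, 1, 0, 3, 2, 1, 4, 3, 2, 1, 5, 4, 3, 2, 3, 4, 3, 1, 2, 3, 1, 2, 3, 4, 5, 3, 0, 0, 1, 0, 5, 4, 3, 2, 1, 0, 3, 2, 3, 4, 3, 2, 1, 3, 2, 3, 4, 5, 0, 1, 0, 1, 0, 2, 1, 3, 4, 3, 5, 4, 3, 2, 1, 0, 3, 2, 4, 5, 1, 3, 2, 1, 0, 3, 2, 1, 4, 3, 2, 1, 5, 4, 3, 2, 3, 4, 3, 1, 2, 3, 1, 2, 3, 4, 5, 3, 0, 0, 4, 3, 2, 1, 3, 2, 4, 3, 2, 1, 3, 2, 3, 2, 4, 3, 1, 2, 3, 4, 0, 1, 0, 2, 1, 3, 4, 3, 5, 4, 3, 2, 1, 0, 3, 2, 4, 5, 1, 0, 1, 0, 5, 4, 3, 2, 1, 0, 3, 2, 3, 4, 3, 2, 1, 3, 2, 3, 4, 5, 0, 1, 0, 1, 0, 2, 1, 3, 4, 3, 5, 4, 3, 2, 1, 0, 3,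 2, 4, 5, 1, 0, 4, 3, 2, 1, 3, 2, 4, 3, 2, 1, 3, 2, 3, 2, 4, 3, 1, 2, 3, 4, 0, 1, 0, 2, 1, 3, 4, 3, 5, 4, 3, 2, 1, 0, 3, 2, 4, 5, 1], [])]

theorem eL37_15 : ∀ e ∈ eL37_15L, ev (liftS phi (sig T)) e.1 = ev (liftS phi (sig T)) e.2 :=
  rep1.eqB inj base (by decide +kernel)

theorem eL37 : ∀ e ∈ ((L37.R.map (subst twL37)).map fun w => (w, ([] : List ℕ))), ev (liftS phi (sig T)) e.1 = ev (liftS phi (sig T)) e.2 :=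
  eqs_of_eq (eqs_append eL37_0 (eqs_append eL37_1 (eqs_append eL37_2 (eqs_append eL37_3 (eqs_append eL37_4 (eqs_append eL37_5 (eqs_append eL37_6 (eqs_append eL37_7 (eqs_append eL37_8 (eqs_append eL37_9 (eqs_append eL37_10 (eqs_append eL37_11 (eqs_append eL37_12 (eqs_append eL37_13 (eqs_append eL37_14 eL37_15))))))))))))))) (by decide +kernel)

/-- the images of the generators -/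
noncomputable def tL37 (x : ℕ) : Cfsg.Spor.ON := ev (liftS phi (sig T)) (twL37.getD x [])

theorem isoL37 : Nonempty (L37.G ≃* gen tL37 7) :=
  have := L37.simple
  ⟨(L37.pres.equiv_of_simple (by decide +kernel) tL37 (Sat.subst (sat_of_eqs eL37)) (x := 0) (by norm_num)
    (rep1.ne (show neqB 8 122760 T (ivl 0 61380) (twL37.getD 0 []) [] = true by decide +kernel))).choose⟩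

theorem halfL37 : ∃ K : Subgroup (genW s W0), K.Normal ∧ K.index = 2 ∧ Nonempty (K ≃* L37.G) := by
  obtain ⟨e⟩ := isoL37
  exact exists_half (rep1.gen_le_stab (tw := twL37) stab.2 (by decide +kernel)) e L37.card.2.1
    (card_eq_of_index card.2.1 stab.1 (by norm_num)) (by norm_num)

end Cfsg.Agent.Comp.ON
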