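import Cfsg.Agent.Comp.ON.OutD

set_option autoImplicit false
set_option maxRecDepth 100000

namespace Cfsg.Agent.Comp.ON
open Cfsg.Agent.Comp

theorem cy7T : stepB (nat_lit 21) (nat_lit 122760) (nat_lit 17) T2 Is cyg cyW cyV [(63360, 63360), (8042, 8042), (0, 0)] [(63360, 63360, [11, 1, 9, 14], [11, 1, 9, 14], [2, 3, 4]), (8042, 8042, [6, 9, 11, 1, 2], [6, 9, 11, 1, 2], [3, 4]), (0, 0, [], [], [1])] [] [(5, []), (0, []), (3, [0]), (1, []), (4, [0]), (3, []), (2, [])] 320 [320] cy7B [[0, 0, 0]] [] [0] [0] = true := by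
  decide +kernel

theorem cy8T : stepB (nat_lit 21) (nat_lit 122760) (nat_lit 17) T2 Is cyg cyW cyV [(320, 320), (63360, 63360), (8042, 8042), (0, 0)] [(320, 320, [11, 8, 0, 14, 11], [11, 8, 0, 14, 11], [3, 4]), (63360, 63360, [11, 1, 9, 14], [11, 1, 9, 14], [3, 4]), (8042, 8042, [6, 9, 11, 1, 2], [6, 9, 11, 1, 2], [4]), (0, 0, [], [], [1])] [] [(5, []), (0, []), (3, []), (4, [0]), (2, []), (1, []), (4, [0]), (0, []), (3, []), (4, [0, 0]), (0, [])] 1 [1] [] [] [] [] [] = true := by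
  decide +kernel

def clE_0L : List (List Nat × List Nat) :=
  [([9], [9]),
   ([9, 9], [9, 9]),
   ([9, 11], [11, 9]),
   ([9, 12], [12, 9]),
   ([9, 9, 9], [9, 9, 9]),
   ([9, 11, 9], [11, 9, 9]),
   ([9, 12, 9], [12, 9, 9]),
   ([9, 11, 11], [11, 11, 9]),
   ([9, 12, 11], [12, 11, 9])]

theorem clE_0 : ∀ e ∈ clE_0L, ev s2 e.1 = ev s2 e.2 :=
  rep2.eqB inj base (by decide +kernel)

def clE_1L : List (List Nat × List Nat) :=
  [([9, 11, 12], [11, 12, 9]),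
   ([9, 9, 9, 9], [9, 9, 9, 9]),
   ([9, 11, 9, 9], [12, 11, 12]),
   ([9, 12, 9, 9], [12, 9, 9, 9]),
   ([9, 11, 11, 9], [11, 11, 9, 9]),
   ([9, 12, 11, 9], [12, 11, 9, 9])]

theorem clE_1 : ∀ e ∈ clE_1L, ev s2 e.1 = ev s2 e.2 :=
  rep2.eqB inj base (by decide +kernel)

def clE_2L : List (List Nat × List Nat) :=
  [([9, 11, 12, 9], [11, 12, 9, 9]),
   ([9, 11, 11, 11], [11, 11, 11, 9]),
   ([9, 12, 11, 11], [12, 11, 11, 9]),
   ([9, 11, 12, 11], [11, 12, 11, 9]),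
   ([9, 12, 11, 12], [12, 11, 12, 9])]

theorem clE_2 : ∀ e ∈ clE_2L, ev s2 e.1 = ev s2 e.2 :=
  rep2.eqB inj base (by decide +kernel)

def clE_3L : List (List Nat × List Nat) :=
  [([9, 9, 9, 9, 9], [9, 9, 9, 9, 9]),
   ([9, 12, 9, 9, 9], [12, 9, 9, 9, 9]),
   ([9, 11, 11, 9, 9], [12, 11, 12, 11]),
   ([9, 12, 11, 9, 9], [11, 12]),
   ([9, 11, 12, 9, 9], [12, 11])]

theorem clE_3 : ∀ e ∈ clE_3L, ev s2 e.1 = ev s2 e.2 :=
  rep2.eqB inj base (by decide +kernel)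

def clE_4L : List (List Nat × List Nat) :=
  [([9, 11, 11, 11, 9], [11, 11, 11, 9, 9]),
   ([9, 12, 11, 11, 9], [12, 11, 11, 9, 9]),
   ([9, 11, 12, 11, 9], [11, 12, 11, 9, 9]),
   ([9, 12, 11, 12, 9], [12, 11, 12, 9, 9])]

theorem clE_4 : ∀ e ∈ clE_4L, ev s2 e.1 = ev s2 e.2 :=
  rep2.eqB inj base (by decide +kernel)

def clE_5L : List (List Nat × List Nat) :=
  [([9, 11, 11, 11, 11], [11, 11, 11, 11, 9]),
   ([9, 12, 11, 11, 11], [12, 11, 11, 11, 9]),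
   ([9, 11, 12, 11, 11], [11, 12, 11, 11, 9]),
   ([9, 12, 11, 12, 11], [12, 11, 12, 11, 9]),
   ([9, 9, 9, 9, 9, 9], [])]

theorem clE_5 : ∀ e ∈ clE_5L, ev s2 e.1 = ev s2 e.2 :=
  rep2.eqB inj base (by decide +kernel)

def clE_6L : List (List Nat × List Nat) :=
  [([9, 12, 9, 9, 9, 9], [12, 9, 9, 9, 9, 9]),
   ([9, 11, 11, 11, 9, 9], [12, 11, 12, 11, 11]),
   ([9, 12, 11, 11, 9, 9], [11, 12, 11]),
   ([9, 11, 12, 11, 9, 9], [12, 11, 11]),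
   ([9, 12, 11, 12, 9, 9], [11])]

theorem clE_6 : ∀ e ∈ clE_6L, ev s2 e.1 = ev s2 e.2 :=
  rep2.eqB inj base (by decide +kernel)

def clE_7L : List (List Nat × List Nat) :=
  [([9, 11, 11, 11, 11, 9], [11, 11, 11, 11, 9, 9]),
   ([9, 12, 11, 11, 11, 9], [12, 11, 11, 11, 9, 9]),
   ([9, 11, 12, 11, 11, 9], [11, 12, 11, 11, 9, 9]),
   ([9, 12, 11, 12, 11, 9], [12, 11, 12, 11, 9, 9])]

theorem clE_7 : ∀ e ∈ clE_7L, ev s2 e.1 = ev s2 e.2 :=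
  rep2.eqB inj base (by decide +kernel)

def clE_8L : List (List Nat × List Nat) :=
  [([9, 11, 11, 11, 11, 11], [11, 11, 11, 11, 11, 9]),
   ([9, 12, 11, 11, 11, 11], [12, 11, 11, 11, 11, 9]),
   ([9, 11, 12, 11, 11, 11], [11, 12, 11, 11, 11, 9]),
   ([9, 12, 11, 12, 11, 11], [12, 11, 12, 11, 11, 9])]

theorem clE_8 : ∀ e ∈ clE_8L, ev s2 e.1 = ev s2 e.2 :=
  rep2.eqB inj base (by decide +kernel)

def clE_9L : List (List Nat × List Nat) :=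
  [([9, 12, 9, 9, 9, 9, 9], [12]),
   ([9, 11, 11, 11, 11, 9, 9], [12, 11, 12, 11, 11, 11]),
   ([9, 12, 11, 11, 11, 9, 9], [11, 12, 11, 11]),
   ([9, 11, 12, 11, 11, 9, 9], [12, 11, 11, 11])]

theorem clE_9 : ∀ e ∈ clE_9L, ev s2 e.1 = ev s2 e.2 :=
  rep2.eqB inj base (by decide +kernel)

def clE_10L : List (List Nat × List Nat) :=
  [([9, 12, 11, 12, 11, 9, 9], [11, 11]),
   ([9, 11, 11, 11, 11, 11, 9], [11, 11, 11, 11, 11, 9, 9]),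
   ([9, 12, 11, 11, 11, 11, 9], [12, 11, 11, 11, 11, 9, 9])]

theorem clE_10 : ∀ e ∈ clE_10L, ev s2 e.1 = ev s2 e.2 :=
  rep2.eqB inj base (by decide +kernel)

def clE_11L : List (List Nat × List Nat) :=
  [([9, 11, 12, 11, 11, 11, 9], [11, 12, 11, 11, 11, 9, 9]),
   ([9, 12, 11, 12, 11, 11, 9], [12, 11, 12, 11, 11, 9, 9]),
   ([9, 12, 11, 11, 11, 11, 11], [12, 11, 11, 11, 11, 11, 9])]

theorem clE_11 : ∀ e ∈ clE_11L, ev s2 e.1 = ev s2 e.2 :=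
  rep2.eqB inj base (by decide +kernel)

def clE_12L : List (List Nat × List Nat) :=
  [([9, 11, 12, 11, 11, 11, 11], [11, 12, 11, 11, 11, 11, 9]),
   ([9, 12, 11, 12, 11, 11, 11], [12, 11, 12, 11, 11, 11, 9]),
   ([9, 11, 11, 11, 11, 11, 9, 9], [12, 11, 12, 11, 11, 11, 11])]

theorem clE_12 : ∀ e ∈ clE_12L, ev s2 e.1 = ev s2 e.2 :=
  rep2.eqB inj base (by decide +kernel)

def clE_13L : List (List Nat × List Nat) :=
  [([9, 12, 11, 11, 11, 11, 9, 9], [11, 12, 11, 11, 11]),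
   ([9, 11, 12, 11, 11, 11, 9, 9], [12, 11, 11, 11, 11]),
   ([9, 12, 11, 12, 11, 11, 9, 9], [11, 11, 11])]

theorem clE_13 : ∀ e ∈ clE_13L, ev s2 e.1 = ev s2 e.2 :=
  rep2.eqB inj base (by decide +kernel)

def clE_14L : List (List Nat × List Nat) :=
  [([9, 12, 11, 11, 11, 11, 11, 9], [12, 11, 11, 11, 11, 11, 9, 9]),
   ([9, 11, 12, 11, 11, 11, 11, 9], [11, 12, 11, 11, 11, 11, 9, 9]),
   ([9, 12, 11, 12, 11, 11, 11, 9], [12, 11, 12, 11, 11, 11, 9, 9])]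

theorem clE_14 : ∀ e ∈ clE_14L, ev s2 e.1 = ev s2 e.2 :=
  rep2.eqB inj base (by decide +kernel)

def clE_15L : List (List Nat × List Nat) :=
  [([9, 12, 11, 12, 11, 11, 11, 11], [12, 11, 12, 11, 11, 11, 11, 9]),
   ([9, 12, 11, 11, 11, 11, 11, 9, 9], [11, 12, 11, 11, 11, 11]),
   ([9, 11, 12, 11, 11, 11, 11, 9, 9], [12, 11, 11, 11, 11, 11])]

theorem clE_15 : ∀ e ∈ clE_15L, ev s2 e.1 = ev s2 e.2 :=
  rep2.eqB inj base (by decide +kernel)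

def clE_16L : List (List Nat × List Nat) :=
  [([9, 12, 11, 12, 11, 11, 11, 9, 9], [11, 11, 11, 11]),
   ([9, 12, 11, 12, 11, 11, 11, 11, 9], [12, 11, 12, 11, 11, 11, 11, 9, 9]),
   ([9, 12, 11, 12, 11, 11, 11, 11, 9, 9], [11, 11, 11, 11, 11]),
   ([11], [11])]

theorem clE_16 : ∀ e ∈ clE_16L, ev s2 e.1 = ev s2 e.2 :=
  rep2.eqB inj base (by decide +kernel)

def clE_17L : List (List Nat × List Nat) :=
  [([11, 9], [11, 9]),
   ([11, 11], [11, 11]),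
   ([11, 12], [11, 12]),
   ([11, 9, 9], [11, 9, 9]),
   ([11, 11, 9], [11, 11, 9]),
   ([11, 12, 9], [11, 12, 9]),
   ([11, 11, 11], [11, 11, 11]),
   ([11, 12, 11], [11, 12, 11]),
   ([11, 11, 12], [12, 11, 11])]

theorem clE_17 : ∀ e ∈ clE_17L, ev s2 e.1 = ev s2 e.2 :=
  rep2.eqB inj base (by decide +kernel)

def clE_18L : List (List Nat × List Nat) :=
  [([11, 9, 9, 9], [12, 11, 12]),
   ([11, 11, 9, 9], [11, 11, 9, 9]),
   ([11, 12, 9, 9], [11, 12, 9, 9]),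
   ([11, 11, 11, 9], [11, 11, 11, 9]),
   ([11, 12, 11, 9], [11, 12, 11, 9]),
   ([11, 11, 12, 9], [12, 11, 11, 9])]

theorem clE_18 : ∀ e ∈ clE_18L, ev s2 e.1 = ev s2 e.2 :=
  rep2.eqB inj base (by decide +kernel)

def clE_19L : List (List Nat × List Nat) :=
  [([11, 11, 11, 11], [11, 11, 11, 11]),
   ([11, 12, 11, 11], [11, 12, 11, 11]),
   ([11, 11, 12, 11], [12, 11, 11, 11]),
   ([11, 12, 11, 12], [12, 11, 12, 11]),
   ([11, 9, 9, 9, 9], [12, 11, 12, 9]),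
   ([11, 12, 9, 9, 9], [12, 11])]

theorem clE_19 : ∀ e ∈ clE_19L, ev s2 e.1 = ev s2 e.2 :=
  rep2.eqB inj base (by decide +kernel)

def clE_20L : List (List Nat × List Nat) :=
  [([11, 11, 11, 9, 9], [11, 11, 11, 9, 9]),
   ([11, 12, 11, 9, 9], [11, 12, 11, 9, 9]),
   ([11, 11, 12, 9, 9], [12, 11, 11, 9, 9]),
   ([11, 11, 11, 11, 9], [11, 11, 11, 11, 9])]

theorem clE_20 : ∀ e ∈ clE_20L, ev s2 e.1 = ev s2 e.2 :=
  rep2.eqB inj base (by decide +kernel)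

def clE_21L : List (List Nat × List Nat) :=
  [([11, 12, 11, 11, 9], [11, 12, 11, 11, 9]),
   ([11, 11, 12, 11, 9], [12, 11, 11, 11, 9]),
   ([11, 12, 11, 12, 9], [12, 11, 12, 11, 9]),
   ([11, 11, 11, 11, 11], [11, 11, 11, 11, 11])]

theorem clE_21 : ∀ e ∈ clE_21L, ev s2 e.1 = ev s2 e.2 :=
  rep2.eqB inj base (by decide +kernel)

def clE_22L : List (List Nat × List Nat) :=
  [([11, 12, 11, 11, 11], [11, 12, 11, 11, 11]),
   ([11, 11, 12, 11, 11], [12, 11, 11, 11, 11]),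
   ([11, 12, 11, 12, 11], [12, 11, 12, 11, 11]),
   ([11, 9, 9, 9, 9, 9], [12, 11, 12, 9, 9])]

theorem clE_22 : ∀ e ∈ clE_22L, ev s2 e.1 = ev s2 e.2 :=
  rep2.eqB inj base (by decide +kernel)

def clE_23L : List (List Nat × List Nat) :=
  [([11, 12, 9, 9, 9, 9], [12, 11, 9]),
   ([11, 11, 11, 11, 9, 9], [11, 11, 11, 11, 9, 9]),
   ([11, 12, 11, 11, 9, 9], [11, 12, 11, 11, 9, 9]),
   ([11, 11, 12, 11, 9, 9], [12, 11, 11, 11, 9, 9])]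

theorem clE_23 : ∀ e ∈ clE_23L, ev s2 e.1 = ev s2 e.2 :=
  rep2.eqB inj base (by decide +kernel)

def clE_24L : List (List Nat × List Nat) :=
  [([11, 12, 11, 12, 9, 9], [12, 11, 12, 11, 9, 9]),
   ([11, 11, 11, 11, 11, 9], [11, 11, 11, 11, 11, 9]),
   ([11, 12, 11, 11, 11, 9], [11, 12, 11, 11, 11, 9]),
   ([11, 11, 12, 11, 11, 9], [12, 11, 11, 11, 11, 9])]

theorem clE_24 : ∀ e ∈ clE_24L, ev s2 e.1 = ev s2 e.2 :=
  rep2.eqB inj base (by decide +kernel)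

def clE_25L : List (List Nat × List Nat) :=
  [([11, 12, 11, 12, 11, 9], [12, 11, 12, 11, 11, 9]),
   ([11, 11, 11, 11, 11, 11], []),
   ([11, 12, 11, 11, 11, 11], [11, 12, 11, 11, 11, 11]),
   ([11, 11, 12, 11, 11, 11], [12, 11, 11, 11, 11, 11])]

theorem clE_25 : ∀ e ∈ clE_25L, ev s2 e.1 = ev s2 e.2 :=
  rep2.eqB inj base (by decide +kernel)

def clE_26L : List (List Nat × List Nat) :=
  [([11, 12, 11, 12, 11, 11], [12, 11, 12, 11, 11, 11]),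
   ([11, 12, 9, 9, 9, 9, 9], [12, 11, 9, 9]),
   ([11, 11, 11, 11, 11, 9, 9], [11, 11, 11, 11, 11, 9, 9])]

theorem clE_26 : ∀ e ∈ clE_26L, ev s2 e.1 = ev s2 e.2 :=
  rep2.eqB inj base (by decide +kernel)

def clE_27L : List (List Nat × List Nat) :=
  [([11, 12, 11, 11, 11, 9, 9], [11, 12, 11, 11, 11, 9, 9]),
   ([11, 11, 12, 11, 11, 9, 9], [12, 11, 11, 11, 11, 9, 9]),
   ([11, 12, 11, 12, 11, 9, 9], [12, 11, 12, 11, 11, 9, 9])]

theorem clE_27 : ∀ e ∈ clE_27L, ev s2 e.1 = ev s2 e.2 :=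
  rep2.eqB inj base (by decide +kernel)

def clE_28L : List (List Nat × List Nat) :=
  [([11, 11, 11, 11, 11, 11, 9], [9]),
   ([11, 12, 11, 11, 11, 11, 9], [11, 12, 11, 11, 11, 11, 9]),
   ([11, 11, 12, 11, 11, 11, 9], [12, 11, 11, 11, 11, 11, 9])]

theorem clE_28 : ∀ e ∈ clE_28L, ev s2 e.1 = ev s2 e.2 :=
  rep2.eqB inj base (by decide +kernel)

def clE_29L : List (List Nat × List Nat) :=
  [([11, 12, 11, 12, 11, 11, 9], [12, 11, 12, 11, 11, 11, 9]),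
   ([11, 12, 11, 11, 11, 11, 11], [12, 9, 9, 9]),
   ([11, 11, 12, 11, 11, 11, 11], [12]),
   ([11, 12, 11, 12, 11, 11, 11], [12, 11, 12, 11, 11, 11, 11])]

theorem clE_29 : ∀ e ∈ clE_29L, ev s2 e.1 = ev s2 e.2 :=
  rep2.eqB inj base (by decide +kernel)

def clE_30L : List (List Nat × List Nat) :=
  [([11, 11, 11, 11, 11, 11, 9, 9], [9, 9]),
   ([11, 12, 11, 11, 11, 11, 9, 9], [11, 12, 11, 11, 11, 11, 9, 9]),
   ([11, 11, 12, 11, 11, 11, 9, 9], [12, 11, 11, 11, 11, 11, 9, 9])]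

theorem clE_30 : ∀ e ∈ clE_30L, ev s2 e.1 = ev s2 e.2 :=
  rep2.eqB inj base (by decide +kernel)

def clE_31L : List (List Nat × List Nat) :=
  [([11, 12, 11, 12, 11, 11, 9, 9], [12, 11, 12, 11, 11, 11, 9, 9]),
   ([11, 12, 11, 11, 11, 11, 11, 9], [12, 9, 9, 9, 9]),
   ([11, 11, 12, 11, 11, 11, 11, 9], [12, 9])]

theorem clE_31 : ∀ e ∈ clE_31L, ev s2 e.1 = ev s2 e.2 :=
  rep2.eqB inj base (by decide +kernel)

def clE_32L : List (List Nat × List Nat) :=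
  [([11, 12, 11, 12, 11, 11, 11, 9], [12, 11, 12, 11, 11, 11, 11, 9]),
   ([11, 12, 11, 12, 11, 11, 11, 11], [9, 9, 9]),
   ([11, 12, 11, 11, 11, 11, 11, 9, 9], [12, 9, 9, 9, 9, 9])]

theorem clE_32 : ∀ e ∈ clE_32L, ev s2 e.1 = ev s2 e.2 :=
  rep2.eqB inj base (by decide +kernel)

def clE_33L : List (List Nat × List Nat) :=
  [([11, 11, 12, 11, 11, 11, 11, 9, 9], [12, 9, 9]),
   ([11, 12, 11, 12, 11, 11, 11, 9, 9], [12, 11, 12, 11, 11, 11, 11, 9, 9]),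
   ([11, 12, 11, 12, 11, 11, 11, 11, 9], [9, 9, 9, 9])]

theorem clE_33 : ∀ e ∈ clE_33L, ev s2 e.1 = ev s2 e.2 :=
  rep2.eqB inj base (by decide +kernel)

def clE_34L : List (List Nat × List Nat) :=
  [([11, 12, 11, 12, 11, 11, 11, 11, 9, 9], [9, 9, 9, 9, 9]),
   ([12], [12]),
   ([12, 9], [12, 9]),
   ([12, 11], [12, 11]),
   ([12, 12], []),
   ([12, 9, 9], [12, 9, 9]),
   ([12, 11, 9], [12, 11, 9]),
   ([12, 12, 9], [9]),
   ([12, 11, 11], [12, 11, 11])]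

theorem clE_34 : ∀ e ∈ clE_34L, ev s2 e.1 = ev s2 e.2 :=
  rep2.eqB inj base (by decide +kernel)

def clE_35L : List (List Nat × List Nat) :=
  [([12, 12, 11], [11]),
   ([12, 11, 12], [12, 11, 12]),
   ([12, 9, 9, 9], [12, 9, 9, 9]),
   ([12, 11, 9, 9], [12, 11, 9, 9]),
   ([12, 12, 9, 9], [9, 9]),
   ([12, 11, 11, 9], [12, 11, 11, 9]),
   ([12, 12, 11, 9], [11, 9])]

theorem clE_35 : ∀ e ∈ clE_35L, ev s2 e.1 = ev s2 e.2 :=
  rep2.eqB inj base (by decide +kernel)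

def clE_36L : List (List Nat × List Nat) :=
  [([12, 11, 12, 9], [12, 11, 12, 9]),
   ([12, 11, 11, 11], [12, 11, 11, 11]),
   ([12, 12, 11, 11], [11, 11]),
   ([12, 11, 12, 11], [12, 11, 12, 11]),
   ([12, 12, 11, 12], [11, 12]),
   ([12, 9, 9, 9, 9], [12, 9, 9, 9, 9])]

theorem clE_36 : ∀ e ∈ clE_36L, ev s2 e.1 = ev s2 e.2 :=
  rep2.eqB inj base (by decide +kernel)

def clE_37L : List (List Nat × List Nat) :=
  [([12, 12, 9, 9, 9], [9, 9, 9]),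
   ([12, 11, 11, 9, 9], [12, 11, 11, 9, 9]),
   ([12, 12, 11, 9, 9], [11, 9, 9]),
   ([12, 11, 12, 9, 9], [12, 11, 12, 9, 9]),
   ([12, 11, 11, 11, 9], [12, 11, 11, 11, 9])]

theorem clE_37 : ∀ e ∈ clE_37L, ev s2 e.1 = ev s2 e.2 :=
  rep2.eqB inj base (by decide +kernel)

def clE_38L : List (List Nat × List Nat) :=
  [([12, 12, 11, 11, 9], [11, 11, 9]),
   ([12, 11, 12, 11, 9], [12, 11, 12, 11, 9]),
   ([12, 12, 11, 12, 9], [11, 12, 9]),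
   ([12, 11, 11, 11, 11], [12, 11, 11, 11, 11]),
   ([12, 12, 11, 11, 11], [11, 11, 11])]

theorem clE_38 : ∀ e ∈ clE_38L, ev s2 e.1 = ev s2 e.2 :=
  rep2.eqB inj base (by decide +kernel)

def clE_39L : List (List Nat × List Nat) :=
  [([12, 11, 12, 11, 11], [12, 11, 12, 11, 11]),
   ([12, 12, 11, 12, 11], [11, 12, 11]),
   ([12, 9, 9, 9, 9, 9], [12, 9, 9, 9, 9, 9]),
   ([12, 12, 9, 9, 9, 9], [9, 9, 9, 9])]

theorem clE_39 : ∀ e ∈ clE_39L, ev s2 e.1 = ev s2 e.2 :=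
  rep2.eqB inj base (by decide +kernel)

def clE_40L : List (List Nat × List Nat) :=
  [([12, 11, 11, 11, 9, 9], [12, 11, 11, 11, 9, 9]),
   ([12, 12, 11, 11, 9, 9], [11, 11, 9, 9]),
   ([12, 11, 12, 11, 9, 9], [12, 11, 12, 11, 9, 9]),
   ([12, 12, 11, 12, 9, 9], [11, 12, 9, 9])]

theorem clE_40 : ∀ e ∈ clE_40L, ev s2 e.1 = ev s2 e.2 :=
  rep2.eqB inj base (by decide +kernel)

def clE_41L : List (List Nat × List Nat) :=
  [([12, 11, 11, 11, 11, 9], [12, 11, 11, 11, 11, 9]),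
   ([12, 12, 11, 11, 11, 9], [11, 11, 11, 9]),
   ([12, 11, 12, 11, 11, 9], [12, 11, 12, 11, 11, 9]),
   ([12, 12, 11, 12, 11, 9], [11, 12, 11, 9])]

theorem clE_41 : ∀ e ∈ clE_41L, ev s2 e.1 = ev s2 e.2 :=
  rep2.eqB inj base (by decide +kernel)

def clE_42L : List (List Nat × List Nat) :=
  [([12, 11, 11, 11, 11, 11], [12, 11, 11, 11, 11, 11]),
   ([12, 12, 11, 11, 11, 11], [11, 11, 11, 11]),
   ([12, 11, 12, 11, 11, 11], [12, 11, 12, 11, 11, 11]),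
   ([12, 12, 11, 12, 11, 11], [11, 12, 11, 11])]

theorem clE_42 : ∀ e ∈ clE_42L, ev s2 e.1 = ev s2 e.2 :=
  rep2.eqB inj base (by decide +kernel)

def clE_43L : List (List Nat × List Nat) :=
  [([12, 12, 9, 9, 9, 9, 9], [9, 9, 9, 9, 9]),
   ([12, 11, 11, 11, 11, 9, 9], [12, 11, 11, 11, 11, 9, 9]),
   ([12, 12, 11, 11, 11, 9, 9], [11, 11, 11, 9, 9])]

theorem clE_43 : ∀ e ∈ clE_43L, ev s2 e.1 = ev s2 e.2 :=
  rep2.eqB inj base (by decide +kernel)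

def clE_44L : List (List Nat × List Nat) :=
  [([12, 11, 12, 11, 11, 9, 9], [12, 11, 12, 11, 11, 9, 9]),
   ([12, 12, 11, 12, 11, 9, 9], [11, 12, 11, 9, 9]),
   ([12, 11, 11, 11, 11, 11, 9], [12, 11, 11, 11, 11, 11, 9])]

theorem clE_44 : ∀ e ∈ clE_44L, ev s2 e.1 = ev s2 e.2 :=
  rep2.eqB inj base (by decide +kernel)

def clE_45L : List (List Nat × List Nat) :=
  [([12, 12, 11, 11, 11, 11, 9], [11, 11, 11, 11, 9]),
   ([12, 11, 12, 11, 11, 11, 9], [12, 11, 12, 11, 11, 11, 9]),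
   ([12, 12, 11, 12, 11, 11, 9], [11, 12, 11, 11, 9])]

theorem clE_45 : ∀ e ∈ clE_45L, ev s2 e.1 = ev s2 e.2 :=
  rep2.eqB inj base (by decide +kernel)

def clE_46L : List (List Nat × List Nat) :=
  [([12, 12, 11, 11, 11, 11, 11], [11, 11, 11, 11, 11]),
   ([12, 11, 12, 11, 11, 11, 11], [12, 11, 12, 11, 11, 11, 11]),
   ([12, 12, 11, 12, 11, 11, 11], [11, 12, 11, 11, 11])]

theorem clE_46 : ∀ e ∈ clE_46L, ev s2 e.1 = ev s2 e.2 :=
  rep2.eqB inj base (by decide +kernel)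

def clE_47L : List (List Nat × List Nat) :=
  [([12, 11, 11, 11, 11, 11, 9, 9], [12, 11, 11, 11, 11, 11, 9, 9]),
   ([12, 12, 11, 11, 11, 11, 9, 9], [11, 11, 11, 11, 9, 9]),
   ([12, 11, 12, 11, 11, 11, 9, 9], [12, 11, 12, 11, 11, 11, 9, 9])]

theorem clE_47 : ∀ e ∈ clE_47L, ev s2 e.1 = ev s2 e.2 :=
  rep2.eqB inj base (by decide +kernel)


end Cfsg.Agent.Comp.ON
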