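import Cfsg.Agent.Comp.ON.OutD

set_option autoImplicit false
set_option maxRecDepth 100000

namespace Cfsg.Agent.Comp.ON
open Cfsg.Agent.Comp

def clE_48L : List (List Nat × List Nat) :=
  [([12, 12, 11, 12, 11, 11, 9, 9], [11, 12, 11, 11, 9, 9]),
   ([12, 12, 11, 11, 11, 11, 11, 9], [11, 11, 11, 11, 11, 9]),
   ([12, 11, 12, 11, 11, 11, 11, 9], [12, 11, 12, 11, 11, 11, 11, 9])]

theorem clE_48 : ∀ e ∈ clE_48L, ev s2 e.1 = ev s2 e.2 :=
  rep2.eqB inj base (by decide +kernel)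

def clE_49L : List (List Nat × List Nat) :=
  [([12, 12, 11, 12, 11, 11, 11, 9], [11, 12, 11, 11, 11, 9]),
   ([12, 12, 11, 12, 11, 11, 11, 11], [11, 12, 11, 11, 11, 11]),
   ([12, 12, 11, 11, 11, 11, 11, 9, 9], [11, 11, 11, 11, 11, 9, 9])]

theorem clE_49 : ∀ e ∈ clE_49L, ev s2 e.1 = ev s2 e.2 :=
  rep2.eqB inj base (by decide +kernel)

def clE_50L : List (List Nat × List Nat) :=
  [([12, 11, 12, 11, 11, 11, 11, 9, 9], [12, 11, 12, 11, 11, 11, 11, 9, 9]),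
   ([12, 12, 11, 12, 11, 11, 11, 9, 9], [11, 12, 11, 11, 11, 9, 9])]

theorem clE_50 : ∀ e ∈ clE_50L, ev s2 e.1 = ev s2 e.2 :=
  rep2.eqB inj base (by decide +kernel)

def clE_51L : List (List Nat × List Nat) :=
  [([12, 12, 11, 12, 11, 11, 11, 11, 9], [11, 12, 11, 11, 11, 11, 9]),
   ([12, 12, 11, 12, 11, 11, 11, 11, 9, 9], [11, 12, 11, 11, 11, 11, 9, 9])]

theorem clE_51 : ∀ e ∈ clE_51L, ev s2 e.1 = ev s2 e.2 :=
  rep2.eqB inj base (by decide +kernel)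

def oE_0L : List (List Nat × List Nat) :=
  [([8, 8, 8, 8, 8, 8, 8, 8, 8, 8, 8, 8, 8, 8, 8, 8, 8, 8, 8], []),
   ([9, 8], [8, 8, 8, 8, 8, 8, 8, 8, 9]),
   ([10, 9], [9, 9, 9, 9, 9, 10])]

theorem oE_0 : ∀ e ∈ oE_0L, ev s2 e.1 = ev s2 e.2 :=
  rep2.eqB inj base (by decide +kernel)

def oE_1L : List (List Nat × List Nat) :=
  [([8, 9, 9, 9, 8, 10, 8, 9, 9, 9, 8, 10], []),
   ([8, 9, 8, 10, 8, 9, 8, 10, 8, 9, 8, 10, 8, 9, 8, 10, 8, 9, 8, 10, 8, 9, 8, 10], [])]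

theorem oE_1 : ∀ e ∈ oE_1L, ev s2 e.1 = ev s2 e.2 :=
  rep2.eqB inj base (by decide +kernel)

def oE_2L : List (List Nat × List Nat) :=
  [([8, 8, 10, 8, 8, 10, 9, 8, 8, 10, 8, 8, 10, 9, 8, 8, 10, 8, 8, 10, 9, 8, 8, 10, 8, 8, 10, 9], [])]

theorem oE_2 : ∀ e ∈ oE_2L, ev s2 e.1 = ev s2 e.2 :=
  rep2.eqB inj base (by decide +kernel)

def gE_0L : List (List Nat × List Nat) :=
  [([8, 10, 9, 8, 10, 8, 8, 8, 8, 10, 8, 8, 8, 10, 8, 10, 0], [9, 9, 9, 8, 10, 9, 8, 10, 8, 8, 8, 8, 10, 8, 8, 8, 10, 8, 10]),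
   ([8, 1], [0, 8]),
   ([8, 2], [1, 8])]

theorem gE_0 : ∀ e ∈ gE_0L, ev s2 e.1 = ev s2 e.2 :=
  rep2.eqB inj base (by decide +kernel)

def gE_1L : List (List Nat × List Nat) :=
  [([9, 2, 8, 9, 1, 9, 3], [0, 9, 2, 8, 9, 1, 9]),
   ([9, 8, 9, 9, 4], [2, 9, 8, 9, 9]),
   ([3, 8, 4, 5], [4, 3, 8, 4])]

theorem gE_1 : ∀ e ∈ gE_1L, ev s2 e.1 = ev s2 e.2 :=
  rep2.eqB inj base (by decide +kernel)

def gE_2L : List (List Nat × List Nat) :=
  [([10, 4, 9, 9, 2, 3, 9, 4, 3, 1, 10, 6], [3, 2, 3, 2, 10, 4, 9, 9, 2, 3, 9, 4, 3, 1, 10]),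
   ([6, 7], [])]

theorem gE_2 : ∀ e ∈ gE_2L, ev s2 e.1 = ev s2 e.2 :=
  rep2.eqB inj base (by decide +kernel)

theorem ob0_ok : obsB (nat_lit 21) (nat_lit 122760) T2 (ivl 0 61380) 8 9 10 Rs ob0 = true := by
  decide +kernel

theorem ob1_ok : obsB (nat_lit 21) (nat_lit 122760) T2 (ivl 0 61380) 8 9 10 Rs ob1 = true := by
  decide +kernel

theorem ob2_ok : obsB (nat_lit 21) (nat_lit 122760) T2 (ivl 0 61380) 8 9 10 Rs ob2 = true := by
  decide +kernel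

theorem ob3_ok : obsB (nat_lit 21) (nat_lit 122760) T2 (ivl 0 61380) 8 9 10 Rs ob3 = true := by
  decide +kernel

theorem ob4_ok : obsB (nat_lit 21) (nat_lit 122760) T2 (ivl 0 61380) 8 9 10 Rs ob4 = true := by
  decide +kernel

theorem ob5_ok : obsB (nat_lit 21) (nat_lit 122760) T2 (ivl 0 61380) 8 9 10 Rs ob5 = true := by
  decide +kernel

theorem ob6_ok : obsB (nat_lit 21) (nat_lit 122760) T2 (ivl 0 61380) 8 9 10 Rs ob6 = true := by
  decide +kernel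

theorem ob7_ok : obsB (nat_lit 21) (nat_lit 122760) T2 (ivl 0 61380) 8 9 10 Rs ob7 = true := by
  decide +kernel

theorem ob8_ok : obsB (nat_lit 21) (nat_lit 122760) T2 (ivl 0 61380) 8 9 10 Rs ob8 = true := by
  decide +kernel

theorem ob9_ok : obsB (nat_lit 21) (nat_lit 122760) T2 (ivl 0 61380) 8 9 10 Rs ob9 = true := by
  decide +kernel

theorem ob10_ok : obsB (nat_lit 21) (nat_lit 122760) T2 (ivl 0 61380) 8 9 10 Rs ob10 = true := by
  decide +kernel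

theorem ob11_ok : obsB (nat_lit 21) (nat_lit 122760) T2 (ivl 0 61380) 8 9 10 Rs ob11 = true := by
  decide +kernel

theorem ob12_ok : obsB (nat_lit 21) (nat_lit 122760) T2 (ivl 0 61380) 8 9 10 Rs ob12 = true := by
  decide +kernel

theorem ob13_ok : obsB (nat_lit 21) (nat_lit 122760) T2 (ivl 0 61380) 8 9 10 Rs ob13 = true := by
  decide +kernel

theorem ob14_ok : obsB (nat_lit 21) (nat_lit 122760) T2 (ivl 0 61380) 8 9 10 Rs ob14 = true := by
  decide +kernel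

theorem ob15_ok : obsB (nat_lit 21) (nat_lit 122760) T2 (ivl 0 61380) 8 9 10 Rs ob15 = true := by
  decide +kernel

theorem ob16_ok : obsB (nat_lit 21) (nat_lit 122760) T2 (ivl 0 61380) 8 9 10 Rs ob16 = true := by
  decide +kernel

theorem ob17_ok : obsB (nat_lit 21) (nat_lit 122760) T2 (ivl 0 61380) 8 9 10 Rs ob17 = true := by
  decide +kernel

theorem ob18_ok : obsB (nat_lit 21) (nat_lit 122760) T2 (ivl 0 61380) 8 9 10 Rs ob18 = true := by
  decide +kernel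

theorem ob19_ok : obsB (nat_lit 21) (nat_lit 122760) T2 (ivl 0 61380) 8 9 10 Rs ob19 = true := by
  decide +kernel

theorem ob20_ok : obsB (nat_lit 21) (nat_lit 122760) T2 (ivl 0 61380) 8 9 10 Rs ob20 = true := by
  decide +kernel

theorem ob21_ok : obsB (nat_lit 21) (nat_lit 122760) T2 (ivl 0 61380) 8 9 10 Rs ob21 = true := by
  decide +kernel

theorem ob22_ok : obsB (nat_lit 21) (nat_lit 122760) T2 (ivl 0 61380) 8 9 10 Rs ob22 = true := by
  decide +kernel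

theorem ob23_ok : obsB (nat_lit 21) (nat_lit 122760) T2 (ivl 0 61380) 8 9 10 Rs ob23 = true := by
  decide +kernel

theorem ob24_ok : obsB (nat_lit 21) (nat_lit 122760) T2 (ivl 0 61380) 8 9 10 Rs ob24 = true := by
  decide +kernel

theorem ob25_ok : obsB (nat_lit 21) (nat_lit 122760) T2 (ivl 0 61380) 8 9 10 Rs ob25 = true := by
  decide +kernel

theorem ob26_ok : obsB (nat_lit 21) (nat_lit 122760) T2 (ivl 0 61380) 8 9 10 Rs ob26 = true := by
  decide +kernel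

theorem ob27_ok : obsB (nat_lit 21) (nat_lit 122760) T2 (ivl 0 61380) 8 9 10 Rs ob27 = true := by
  decide +kernel

theorem ob28_ok : obsB (nat_lit 21) (nat_lit 122760) T2 (ivl 0 61380) 8 9 10 Rs ob28 = true := by
  decide +kernel

theorem ob29_ok : obsB (nat_lit 21) (nat_lit 122760) T2 (ivl 0 61380) 8 9 10 Rs ob29 = true := by
  decide +kernel

theorem ob30_ok : obsB (nat_lit 21) (nat_lit 122760) T2 (ivl 0 61380) 8 9 10 Rs ob30 = true := by
  decide +kernel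

theorem ob31_ok : obsB (nat_lit 21) (nat_lit 122760) T2 (ivl 0 61380) 8 9 10 Rs ob31 = true := by
  decide +kernel

theorem ob32_ok : obsB (nat_lit 21) (nat_lit 122760) T2 (ivl 0 61380) 8 9 10 Rs ob32 = true := by
  decide +kernel

theorem ob33_ok : obsB (nat_lit 21) (nat_lit 122760) T2 (ivl 0 61380) 8 9 10 Rs ob33 = true := by
  decide +kernel

theorem ob34_ok : obsB (nat_lit 21) (nat_lit 122760) T2 (ivl 0 61380) 8 9 10 Rs ob34 = true := by
  decide +kernel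

theorem ob35_ok : obsB (nat_lit 21) (nat_lit 122760) T2 (ivl 0 61380) 8 9 10 Rs ob35 = true := by
  decide +kernel


end Cfsg.Agent.Comp.ON
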