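import Cfsg.Agent.Comp.ON.OutD

set_option autoImplicit false
set_option maxRecDepth 100000

namespace Cfsg.Agent.Comp.ON
open Cfsg.Agent.Comp

theorem ob36_ok : obsB (nat_lit 21) (nat_lit 122760) T2 (ivl 0 61380) 8 9 10 Rs ob36 = true := by
  decide +kernel

theorem ob37_ok : obsB (nat_lit 21) (nat_lit 122760) T2 (ivl 0 61380) 8 9 10 Rs ob37 = true := by
  decide +kernel

theorem ob38_ok : obsB (nat_lit 21) (nat_lit 122760) T2 (ivl 0 61380) 8 9 10 Rs ob38 = true := by
  decide +kernel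

theorem ob39_ok : obsB (nat_lit 21) (nat_lit 122760) T2 (ivl 0 61380) 8 9 10 Rs ob39 = true := by
  decide +kernel

theorem ob40_ok : obsB (nat_lit 21) (nat_lit 122760) T2 (ivl 0 61380) 8 9 10 Rs ob40 = true := by
  decide +kernel

theorem ob41_ok : obsB (nat_lit 21) (nat_lit 122760) T2 (ivl 0 61380) 8 9 10 Rs ob41 = true := by
  decide +kernel

theorem ob42_ok : obsB (nat_lit 21) (nat_lit 122760) T2 (ivl 0 61380) 8 9 10 Rs ob42 = true := by
  decide +kernel

theorem ob43_ok : obsB (nat_lit 21) (nat_lit 122760) T2 (ivl 0 61380) 8 9 10 Rs ob43 = true := by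
  decide +kernel

theorem ob44_ok : obsB (nat_lit 21) (nat_lit 122760) T2 (ivl 0 61380) 8 9 10 Rs ob44 = true := by
  decide +kernel

theorem ob45_ok : obsB (nat_lit 21) (nat_lit 122760) T2 (ivl 0 61380) 8 9 10 Rs ob45 = true := by
  decide +kernel

theorem ob46_ok : obsB (nat_lit 21) (nat_lit 122760) T2 (ivl 0 61380) 8 9 10 Rs ob46 = true := by
  decide +kernel

theorem ob47_ok : obsB (nat_lit 21) (nat_lit 122760) T2 (ivl 0 61380) 8 9 10 Rs ob47 = true := by
  decide +kernel

theorem ob48_ok : obsB (nat_lit 21) (nat_lit 122760) T2 (ivl 0 61380) 8 9 10 Rs ob48 = true := by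
  decide +kernel

theorem ob49_ok : obsB (nat_lit 21) (nat_lit 122760) T2 (ivl 0 61380) 8 9 10 Rs ob49 = true := by
  decide +kernel

theorem ob50_ok : obsB (nat_lit 21) (nat_lit 122760) T2 (ivl 0 61380) 8 9 10 Rs ob50 = true := by
  decide +kernel

theorem ob51_ok : obsB (nat_lit 21) (nat_lit 122760) T2 (ivl 0 61380) 8 9 10 Rs ob51 = true := by
  decide +kernel

theorem ob52_ok : obsB (nat_lit 21) (nat_lit 122760) T2 (ivl 0 61380) 8 9 10 Rs ob52 = true := by
  decide +kernel

theorem ob53_ok : obsB (nat_lit 21) (nat_lit 122760) T2 (ivl 0 61380) 8 9 10 Rs ob53 = true := by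
  decide +kernel

theorem ob54_ok : obsB (nat_lit 21) (nat_lit 122760) T2 (ivl 0 61380) 8 9 10 Rs ob54 = true := by
  decide +kernel

theorem ob55_ok : obsB (nat_lit 21) (nat_lit 122760) T2 (ivl 0 61380) 8 9 10 Rs ob55 = true := by
  decide +kernel

theorem ob56_ok : obsB (nat_lit 21) (nat_lit 122760) T2 (ivl 0 61380) 8 9 10 Rs ob56 = true := by
  decide +kernel

theorem ob57_ok : obsB (nat_lit 21) (nat_lit 122760) T2 (ivl 0 61380) 8 9 10 Rs ob57 = true := by
  decide +kernel

theorem ob58_ok : obsB (nat_lit 21) (nat_lit 122760) T2 (ivl 0 61380) 8 9 10 Rs ob58 = true := by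
  decide +kernel

theorem ob59_ok : obsB (nat_lit 21) (nat_lit 122760) T2 (ivl 0 61380) 8 9 10 Rs ob59 = true := by
  decide +kernel

theorem ob60_ok : obsB (nat_lit 21) (nat_lit 122760) T2 (ivl 0 61380) 8 9 10 Rs ob60 = true := by
  decide +kernel

theorem ob61_ok : obsB (nat_lit 21) (nat_lit 122760) T2 (ivl 0 61380) 8 9 10 Rs ob61 = true := by
  decide +kernel

theorem ob62_ok : obsB (nat_lit 21) (nat_lit 122760) T2 (ivl 0 61380) 8 9 10 Rs ob62 = true := by
  decide +kernel

theorem ob63_ok : obsB (nat_lit 21) (nat_lit 122760) T2 (ivl 0 61380) 8 9 10 Rs ob63 = true := by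
  decide +kernel

theorem ob64_ok : obsB (nat_lit 21) (nat_lit 122760) T2 (ivl 0 61380) 8 9 10 Rs ob64 = true := by
  decide +kernel

theorem ob65_ok : obsB (nat_lit 21) (nat_lit 122760) T2 (ivl 0 61380) 8 9 10 Rs ob65 = true := by
  decide +kernel

theorem ob66_ok : obsB (nat_lit 21) (nat_lit 122760) T2 (ivl 0 61380) 8 9 10 Rs ob66 = true := by
  decide +kernel

theorem ob67_ok : obsB (nat_lit 21) (nat_lit 122760) T2 (ivl 0 61380) 8 9 10 Rs ob67 = true := by
  decide +kernel

theorem ob68_ok : obsB (nat_lit 21) (nat_lit 122760) T2 (ivl 0 61380) 8 9 10 Rs ob68 = true := by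
  decide +kernel

theorem ob69_ok : obsB (nat_lit 21) (nat_lit 122760) T2 (ivl 0 61380) 8 9 10 Rs ob69 = true := by
  decide +kernel

theorem ob70_ok : obsB (nat_lit 21) (nat_lit 122760) T2 (ivl 0 61380) 8 9 10 Rs ob70 = true := by
  decide +kernel

theorem ob71_ok : obsB (nat_lit 21) (nat_lit 122760) T2 (ivl 0 61380) 8 9 10 Rs ob71 = true := by
  decide +kernel

theorem ob72_ok : obsB (nat_lit 21) (nat_lit 122760) T2 (ivl 0 61380) 8 9 10 Rs ob72 = true := by
  decide +kernel

theorem ob73_ok : obsB (nat_lit 21) (nat_lit 122760) T2 (ivl 0 61380) 8 9 10 Rs ob73 = true := by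
  decide +kernel

theorem ob74_ok : obsB (nat_lit 21) (nat_lit 122760) T2 (ivl 0 61380) 8 9 10 Rs ob74 = true := by
  decide +kernel

theorem ob75_ok : obsB (nat_lit 21) (nat_lit 122760) T2 (ivl 0 61380) 8 9 10 Rs ob75 = true := by
  decide +kernel

theorem ob76_ok : obsB (nat_lit 21) (nat_lit 122760) T2 (ivl 0 61380) 8 9 10 Rs ob76 = true := by
  decide +kernel

theorem ob77_ok : obsB (nat_lit 21) (nat_lit 122760) T2 (ivl 0 61380) 8 9 10 Rs ob77 = true := by
  decide +kernel

theorem ob78_ok : obsB (nat_lit 21) (nat_lit 122760) T2 (ivl 0 61380) 8 9 10 Rs ob78 = true := by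
  decide +kernel

theorem ob79_ok : obsB (nat_lit 21) (nat_lit 122760) T2 (ivl 0 61380) 8 9 10 Rs ob79 = true := by
  decide +kernel

theorem ob80_ok : obsB (nat_lit 21) (nat_lit 122760) T2 (ivl 0 61380) 8 9 10 Rs ob80 = true := by
  decide +kernel

theorem ob81_ok : obsB (nat_lit 21) (nat_lit 122760) T2 (ivl 0 61380) 8 9 10 Rs ob81 = true := by
  decide +kernel

theorem ob82_ok : obsB (nat_lit 21) (nat_lit 122760) T2 (ivl 0 61380) 8 9 10 Rs ob82 = true := by
  decide +kernel

theorem ob83_ok : obsB (nat_lit 21) (nat_lit 122760) T2 (ivl 0 61380) 8 9 10 Rs ob83 = true := by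
  decide +kernel

theorem ob84_ok : obsB (nat_lit 21) (nat_lit 122760) T2 (ivl 0 61380) 8 9 10 Rs ob84 = true := by
  decide +kernel

theorem ob85_ok : obsB (nat_lit 21) (nat_lit 122760) T2 (ivl 0 61380) 8 9 10 Rs ob85 = true := by
  decide +kernel

theorem ob86_ok : obsB (nat_lit 21) (nat_lit 122760) T2 (ivl 0 61380) 8 9 10 Rs ob86 = true := by
  decide +kernel

theorem ob87_ok : obsB (nat_lit 21) (nat_lit 122760) T2 (ivl 0 61380) 8 9 10 Rs ob87 = true := by
  decide +kernel

theorem ob88_ok : obsB (nat_lit 21) (nat_lit 122760) T2 (ivl 0 61380) 8 9 10 Rs ob88 = true := by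
  decide +kernel

theorem ob89_ok : obsB (nat_lit 21) (nat_lit 122760) T2 (ivl 0 61380) 8 9 10 Rs ob89 = true := by
  decide +kernel

theorem ob90_ok : obsB (nat_lit 21) (nat_lit 122760) T2 (ivl 0 61380) 8 9 10 Rs ob90 = true := by
  decide +kernel

theorem ob91_ok : obsB (nat_lit 21) (nat_lit 122760) T2 (ivl 0 61380) 8 9 10 Rs ob91 = true := by
  decide +kernel


end Cfsg.Agent.Comp.ON
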