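import Cfsg.Agent.Comp.ON.OutD

set_option autoImplicit false
set_option maxRecDepth 100000

namespace Cfsg.Agent.Comp.ON
open Cfsg.Agent.Comp

theorem ob92_ok : obsB (nat_lit 21) (nat_lit 122760) T2 (ivl 0 61380) 8 9 10 Rs ob92 = true := by
  decide +kernel

theorem ob93_ok : obsB (nat_lit 21) (nat_lit 122760) T2 (ivl 0 61380) 8 9 10 Rs ob93 = true := by
  decide +kernel

theorem ob94_ok : obsB (nat_lit 21) (nat_lit 122760) T2 (ivl 0 61380) 8 9 10 Rs ob94 = true := by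
  decide +kernel

theorem ob95_ok : obsB (nat_lit 21) (nat_lit 122760) T2 (ivl 0 61380) 8 9 10 Rs ob95 = true := by
  decide +kernel

theorem ob96_ok : obsB (nat_lit 21) (nat_lit 122760) T2 (ivl 0 61380) 8 9 10 Rs ob96 = true := by
  decide +kernel

theorem ob97_ok : obsB (nat_lit 21) (nat_lit 122760) T2 (ivl 0 61380) 8 9 10 Rs ob97 = true := by
  decide +kernel

theorem ob98_ok : obsB (nat_lit 21) (nat_lit 122760) T2 (ivl 0 61380) 8 9 10 Rs ob98 = true := by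
  decide +kernel

theorem ob99_ok : obsB (nat_lit 21) (nat_lit 122760) T2 (ivl 0 61380) 8 9 10 Rs ob99 = true := by
  decide +kernel

theorem ob100_ok : obsB (nat_lit 21) (nat_lit 122760) T2 (ivl 0 61380) 8 9 10 Rs ob100 = true := by
  decide +kernel

theorem ob101_ok : obsB (nat_lit 21) (nat_lit 122760) T2 (ivl 0 61380) 8 9 10 Rs ob101 = true := by
  decide +kernel

theorem ob102_ok : obsB (nat_lit 21) (nat_lit 122760) T2 (ivl 0 61380) 8 9 10 Rs ob102 = true := by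
  decide +kernel

theorem ob103_ok : obsB (nat_lit 21) (nat_lit 122760) T2 (ivl 0 61380) 8 9 10 Rs ob103 = true := by
  decide +kernel

theorem ob104_ok : obsB (nat_lit 21) (nat_lit 122760) T2 (ivl 0 61380) 8 9 10 Rs ob104 = true := by
  decide +kernel

def tE_0L : List (List Nat × List Nat) :=
  [([13, 13], []),
   ([14, 14], []),
   ([15, 15], []),
   ([16, 16], []),
   ([17, 17], []),
   ([18, 18], []),
   ([19, 20], []),
   ([20, 19], []),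
   ([13, 14, 13, 14, 13, 14], []),
   ([13, 15, 13, 15], []),
   ([13, 16, 13, 16], []),
   ([13, 17, 13, 17], []),
   ([13, 18, 13, 18], []),
   ([14, 15, 14, 15, 14, 15], []),
   ([14, 16, 14, 16], [])]

theorem tE_0 : ∀ e ∈ tE_0L, ev s2 e.1 = ev s2 e.2 :=
  rep2.eqB inj base (by decide +kernel)

def tE_1L : List (List Nat × List Nat) :=
  [([14, 17, 14, 17], []),
   ([14, 18, 14, 18], []),
   ([15, 16, 15, 16, 15, 16, 15, 16, 15, 16, 15, 16, 15, 16, 15, 16], []),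
   ([15, 17, 15, 17], []),
   ([15, 18, 15, 18], []),
   ([16, 17, 16, 17, 16, 17], []),
   ([16, 18, 16, 18], []),
   ([17, 18, 17, 18, 17, 18], [])]

theorem tE_1 : ∀ e ∈ tE_1L, ev s2 e.1 = ev s2 e.2 :=
  rep2.eqB inj base (by decide +kernel)

def tE_2L : List (List Nat × List Nat) :=
  [([13, 18, 20, 20], []),
   ([13, 18, 16, 15, 16, 15, 16, 15, 16, 15], []),
   ([15, 20, 16, 20, 16, 15, 16, 19, 16, 19], []),
   ([16, 20, 15, 20, 15, 16, 15, 19, 15, 19], [])]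

theorem tE_2 : ∀ e ∈ tE_2L, ev s2 e.1 = ev s2 e.2 :=
  rep2.eqB inj base (by decide +kernel)

def tE_3L : List (List Nat × List Nat) :=
  [([14, 15, 16, 19, 14, 15, 16, 19, 14, 15, 16, 19, 14, 15, 16, 19, 14, 15, 16, 19], []),
   ([19, 14, 15, 19, 15, 14, 19, 14, 15, 19, 15], []),
   ([19, 17, 16, 19, 16, 17, 19, 17, 16, 19, 16], [])]

theorem tE_3 : ∀ e ∈ tE_3L, ev s2 e.1 = ev s2 e.2 :=
  rep2.eqB inj base (by decide +kernel)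

def bE_0L : List (List Nat × List Nat) :=
  [([3, 2, 4, 1, 0, 5], [8]),
   ([0, 3, 4, 3, 2, 4, 1, 0, 5, 2, 3, 2, 4, 1, 0, 5, 3, 2, 4, 1, 0, 5, 4, 3, 2, 4, 1, 0, 5, 2, 3, 2, 4, 1, 0, 5, 4, 5, 3, 4, 3], [9])]

theorem bE_0 : ∀ e ∈ bE_0L, ev s2 e.1 = ev s2 e.2 :=
  rep2.eqB inj base (by decide +kernel)

def bE_1L : List (List Nat × List Nat) :=
  [([2, 7, 2, 4, 1, 0, 5, 3, 0, 3, 4, 3, 2, 4, 1, 0, 5, 2, 3, 2, 4, 1, 0, 5, 3, 2, 4, 1, 0, 5, 4, 3, 2, 4, 1, 0, 5, 2, 3, 2, 4, 1, 0, 5, 4, 5, 3, 4, 3, 2, 3, 1, 6, 0, 3, 4, 3, 2, 4, 1, 0, 5, 2, 3, 2, 4, 1, 0, 5, 3, 2, 4, 1, 0, 5, 4, 3, 2, 4, 1, 0, 5, 2, 3, 2, 4, 1, 0, 5, 4, 5, 3, 4, 3, 0, 3, 4, 3, 2, 4, 1, 0, 5, 2, 3, 2, 4, 1, 0, 5, 3, 2, 4, 1, 0, 5, 4, 3, 2, 4, 1, 0, 5, 2, 3, 2, 4, 1, 0, 5, 4, 5, 3, 4, 3, 0, 3, 4, 3, 2, 4, 1, 0, 5, 2, 3, 2, 4, 1, 0, 5, 3, 2, 4, 1, 0, 5, 4, 3, 2, 4, 1, 0, 5, 2, 3, 2, 4, 1, 0,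 5, 4, 5, 3, 4, 3, 4, 0], [10])]

theorem bE_1 : ∀ e ∈ bE_1L, ev s2 e.1 = ev s2 e.2 :=
  rep2.eqB inj base (by decide +kernel)

def bE_2L : List (List Nat × List Nat) :=
  [([16, 15, 17, 14, 13, 18], [8]),
   ([13, 16, 17, 16, 15, 17, 14, 13, 18, 15, 16, 15, 17, 14, 13, 18, 16, 15, 17, 14, 13, 18, 17, 16, 15, 17, 14, 13, 18, 15, 16, 15, 17, 14, 13, 18, 17, 18, 16, 17, 16], [9])]

theorem bE_2 : ∀ e ∈ bE_2L, ev s2 e.1 = ev s2 e.2 :=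
  rep2.eqB inj base (by decide +kernel)

def bE_3L : List (List Nat × List Nat) :=
  [([15, 20, 15, 17, 14, 13, 18, 16, 13, 16, 17, 16, 15, 17, 14, 13, 18, 15, 16, 15, 17, 14, 13, 18, 16, 15, 17, 14, 13, 18, 17, 16, 15, 17, 14, 13, 18, 15, 16, 15, 17, 14, 13, 18, 17, 18, 16, 17, 16, 15, 16, 14, 19, 13, 16, 17, 16, 15, 17, 14, 13, 18, 15, 16, 15, 17, 14, 13, 18, 16, 15, 17, 14, 13, 18, 17, 16, 15, 17, 14, 13, 18, 15, 16, 15, 17, 14, 13, 18, 17, 18, 16, 17, 16, 13, 16, 17, 16, 15, 17, 14, 13, 18, 15, 16, 15, 17, 14, 13, 18, 16, 15, 17, 14, 13, 18, 17, 16, 15, 17, 14, 13, 18, 15, 16, 15, 17, 14, 13, 18, 17, 18, 16, 17, 16, 13, 16, 17, 16, 15, 17, 14, 13, 18, 15, 16, 15, 17, 14, 13, 18, 16, 15, 17, 14, 13, 18, 17, 16, 15, 17, 14, 13, 18, 15, 16, 15, 17, 14, 13, 18, 17, 18, 16, 17, 16, 17, 13], [10, 12, 11, 9, 9])]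

theorem bE_3 : ∀ e ∈ bE_3L, ev s2 e.1 = ev s2 e.2 :=
  rep2.eqB inj base (by decide +kernel)

theorem non : nonB (nat_lit 21) (nat_lit 122760) T2 (ivl 0 61380) 8 9 10 (1, [12, 11, 9, 9]) Cl = true := by
  decide +kernel


end Cfsg.Agent.Comp.ON
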