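import Cfsg.Agent.Comp.ON.Out0
import Cfsg.Agent.Comp.ON.Out1
import Cfsg.Agent.Comp.ON.Out2
import Cfsg.Agent.Comp.ON.Out3
import Cfsg.Agent.Comp.ON.Out4

set_option autoImplicit false
set_option maxRecDepth 100000

namespace Cfsg.Agent.Comp.ON
open Cfsg.Agent.Comp

theorem cxX : Ctx s2 (nat_lit 21) (nat_lit 122760) (nat_lit 17) T2 phi Is cxg cxW cxV :=
  Ctx.of (V := [([8], [[0]]), ([9], [[0, 0, 0, 0, 0, 0, 0, 0, 0, 0, 0, 0]])]) rep2 orbs (by norm_num) (by decide +kernel) cxE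

theorem cx2N : No s2 phi cxg [(0, 0)] 1 cx2B :=
  No.of_eq (No.append (No.leaf cxX cx2S cx2L0_ok) (No.append (No.leaf cxX cx2S cx2L1_ok) (No.append (No.leaf cxX cx2S cx2L2_ok) (No.append (No.leaf cxX cx2S cx2L3_ok) (No.append (No.leaf cxX cx2S cx2L4_ok) (No.append (No.leaf cxX cx2S cx2L5_ok) (No.append (No.leaf cxX cx2S cx2L6_ok) (No.append (No.leaf cxX cx2S cx2L7_ok) (No.append (No.leaf cxX cx2S cx2L8_ok) (No.append (No.leaf cxX cx2S cx2L9_ok) (No.append (No.leaf cxX cx2S cx2L10_ok) (No.append (No.leaf cxX cx2S cx2L11_ok) (No.append (No.leaf cxX cx2S cx2L12_ok) (No.leaf cxX cx2S cx2L13_ok)))))))))))))) (by decide +kernel)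

theorem cxC2 : Cen s2 phi cxg [(1, 1), (0, 0)] (genW s2 cxW) :=
  Cen.step cxX cx3T (No.nil _ _ _ _ _) (Cen.base inj base (by decide +kernel) _)

theorem cxC1 : Cen s2 phi cxg [(0, 0)] (genW s2 cxW) :=
  Cen.step cxX cx2T cx2N cxC2

theorem cxC : Cen s2 phi cxg [] (genW s2 cxW) :=
  Cen.step cxX cx1T (No.nil _ _ _ _ _) cxC1

theorem cyX : Ctx s2 (nat_lit 21) (nat_lit 122760) (nat_lit 17) T2 phi Is cyg cyW cyV :=
  Ctx.of (V := [([9], [[0]]), ([11], [[0]]), ([12], [[0]]), ([10], [[0, 0, 0, 0, 0]])]) rep2 orbs (by norm_num) (by decide +kernel) cyE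

theorem cy1N : No s2 phi cyg [(11713, 62554), (0, 11264)] 61992 cy1B :=
  No.of_eq (No.leaf cyX cy1S cy1L0_ok) (by decide +kernel)

theorem cy2N : No s2 phi cyg [(0, 11264)] 11713 cy2B :=
  No.of_eq (No.step cyX cy1T cy1N) (by decide +kernel)

theorem cy3N : No s2 phi cyg [] 0 cy3B :=
  No.of_eq (No.step cyX cy2T cy2N) (by decide +kernel)

theorem cy5N : No s2 phi cyg [(0, 0)] 8042 cy5B :=
  No.of_eq (No.append (No.leaf cyX cy5S cy5L0_ok) (No.step cyX cy4T (No.nil _ _ _ _ _))) (by decide +kernel)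

theorem cy6N : No s2 phi cyg [(8042, 8042), (0, 0)] 63360 cy6B :=
  No.of_eq (No.leaf cyX cy6S cy6L0_ok) (by decide +kernel)

theorem cy7N : No s2 phi cyg [(63360, 63360), (8042, 8042), (0, 0)] 320 cy7B :=
  No.of_eq (No.leaf cyX cy7S cy7L0_ok) (by decide +kernel)

theorem cyC4 : Cen s2 phi cyg [(320, 320), (63360, 63360), (8042, 8042), (0, 0)] (genW s2 cyW) :=
  Cen.step cyX cy8T (No.nil _ _ _ _ _) (Cen.base inj base (by decide +kernel) _)

theorem cyC3 : Cen s2 phi cyg [(63360, 63360), (8042, 8042), (0, 0)] (genW s2 cyW) :=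
  Cen.step cyX cy7T cy7N cyC4

theorem cyC2 : Cen s2 phi cyg [(8042, 8042), (0, 0)] (genW s2 cyW) :=
  Cen.step cyX cy6T cy6N cyC3

theorem cyC1 : Cen s2 phi cyg [(0, 0)] (genW s2 cyW) :=
  Cen.step cyX cy5T cy5N cyC2

theorem cyC : Cen s2 phi cyg [] (genW s2 cyW) :=
  Cen.step cyX cy3T cy3N cyC1

theorem clE : ∀ e ∈ clL, ev s2 e.1 = ev s2 e.2 :=
  eqs_of_eq (eqs_append clE_0 (eqs_append clE_1 (eqs_append clE_2 (eqs_append clE_3 (eqs_append clE_4 (eqs_append clE_5 (eqs_append clE_6 (eqs_append clE_7 (eqs_append clE_8 (eqs_append clE_9 (eqs_append clE_10 (eqs_append clE_11 (eqs_append clE_12 (eqs_append clE_13 (eqs_append clE_14 (eqs_append clE_15 (eqs_append clE_16 (eqs_append clE_17 (eqs_append clE_18 (eqs_append clE_19 (eqs_append clE_20 (eqs_append clE_21 (eqs_append clE_22 (eqs_append clE_23 (eqs_append clE_24 (eqs_append clE_25 (eqs_append clE_26 (eqs_append clE_27 (eqs_append clE_28 (eqs_append clE_29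 (eqs_append clE_30 (eqs_append clE_31 (eqs_append clE_32 (eqs_append clE_33 (eqs_append clE_34 (eqs_append clE_35 (eqs_append clE_36 (eqs_append clE_37 (eqs_append clE_38 (eqs_append clE_39 (eqs_append clE_40 (eqs_append clE_41 (eqs_append clE_42 (eqs_append clE_43 (eqs_append clE_44 (eqs_append clE_45 (eqs_append clE_46 (eqs_append clE_47 (eqs_append clE_48 (eqs_append clE_49 (eqs_append clE_50 clE_51))))))))))))))))))))))))))))))))))))))))))))))))))) (by decide +kernel)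

theorem cl : ∀ c, Cm s2 [wpow [9] 1] c → ∃ w ∈ Cl, c = ev s2 w := fun c hc =>
  (have := card.1; mem_list_of_closed (W := cyW) clE (by decide +kernel) (by decide +kernel) (by decide +kernel)) c (cyC.top c hc)

theorem oE : ∀ e ∈ (outE 8 9 10 19 8 1 5 Rs), ev s2 e.1 = ev s2 e.2 :=
  eqs_of_eq (eqs_append oE_0 (eqs_append oE_1 oE_2)) (by decide +kernel)

theorem gE : ∀ e ∈ GE, ev s2 e.1 = ev s2 e.2 :=
  eqs_of_eq (eqs_append gE_0 (eqs_append gE_1 gE_2)) (by decide +kernel)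

theorem tE : ∀ e ∈ ((R.map (subst tw)).map fun w => (w, ([] : List Nat))), ev s2 e.1 = ev s2 e.2 :=
  eqs_of_eq (eqs_append tE_0 (eqs_append tE_1 (eqs_append tE_2 tE_3))) (by decide +kernel)

theorem bE : ∀ e ∈ (betaE 8 9 10 (1, [12, 11, 9, 9]) tw wx wy wz), ev s2 e.1 = ev s2 e.2 :=
  eqs_of_eq (eqs_append bE_0 (eqs_append bE_1 (eqs_append bE_2 bE_3))) (by decide +kernel)

theorem beta : ∃ β : MulAut Cfsg.Spor.ON, ∀ w, ltB 8 w = true → β (ev s2 w) = ev s2 (subst tw w) :=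
  have := card.1; have := simple
  pres.aut (by decide +kernel) ext2.2 (sat_of_eqs tE) (by norm_num)
    (rep2.ne (show neqB (nat_lit 21) (nat_lit 122760) T2 (ivl 0 61380) _ [] = true by decide +kernel))

theorem out : Nat.card (Cfsg.Out Cfsg.Spor.ON) = 2 :=
  have := card.1
  out_two (a₀ := (1, [12, 11, 9, 9])) (out_cases (p := 19) (by norm_num) (by rw [card.2.1]; norm_num)
    (rep2.ne (show neqB (nat_lit 21) (nat_lit 122760) T2 (ivl 0 61380) [8] [] = true by decide +kernel)) cxC.top cl oE (I := [1, 2, 4]) (by decide +kernel)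
    (Obs.append (Obs.of rep2 ob0_ok) (Obs.append (Obs.of rep2 ob1_ok) (Obs.append (Obs.of rep2 ob2_ok) (Obs.append (Obs.of rep2 ob3_ok) (Obs.append (Obs.of rep2 ob4_ok) (Obs.append (Obs.of rep2 ob5_ok) (Obs.append (Obs.of rep2 ob6_ok) (Obs.append (Obs.of rep2 ob7_ok) (Obs.append (Obs.of rep2 ob8_ok) (Obs.append (Obs.of rep2 ob9_ok) (Obs.append (Obs.of rep2 ob10_ok) (Obs.append (Obs.of rep2 ob11_ok) (Obs.append (Obs.of rep2 ob12_ok) (Obs.append (Obs.of rep2 ob13_ok) (Obs.append (Obs.of rep2 ob14_ok) (Obs.append (Obs.of rep2 ob15_ok) (Obs.append (Obs.of rep2 ob16_ok) (Obs.append (Obs.of rep2 ob17_ok) (Obs.append (Obs.of rep2 ob18_ok) (Obs.append (Obs.of rep2 ob19_ok) (Obs.append (Obs.of rep2 ob20_ok) (Obs.append (Obs.of rep2 ob21_ok) (Obs.append (Obs.of rep2 ob22_ok) (Obs.append (Obs.of rep2 ob23_ok) (Obs.append (Obs.of rep2 ob24_ok) (Obs.append (Obs.of rep2 ob25_ok) (Obs.append (Obs.of rep2 ob26_ok) (Obs.append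 (Obs.of rep2 ob27_ok) (Obs.append (Obs.of rep2 ob28_ok) (Obs.append (Obs.of rep2 ob29_ok) (Obs.append (Obs.of rep2 ob30_ok) (Obs.append (Obs.of rep2 ob31_ok) (Obs.append (Obs.of rep2 ob32_ok) (Obs.append (Obs.of rep2 ob33_ok) (Obs.append (Obs.of rep2 ob34_ok) (Obs.append (Obs.of rep2 ob35_ok) (Obs.append (Obs.of rep2 ob36_ok) (Obs.append (Obs.of rep2 ob37_ok) (Obs.append (Obs.of rep2 ob38_ok) (Obs.append (Obs.of rep2 ob39_ok) (Obs.append (Obs.of rep2 ob40_ok) (Obs.append (Obs.of rep2 ob41_ok) (Obs.append (Obs.of rep2 ob42_ok) (Obs.append (Obs.of rep2 ob43_ok) (Obs.append (Obs.of rep2 ob44_ok) (Obs.append (Obs.of rep2 ob45_ok) (Obs.append (Obs.of rep2 ob46_ok) (Obs.append (Obs.of rep2 ob47_ok) (Obs.append (Obs.of rep2 ob48_ok) (Obs.append (Obs.of rep2 ob49_ok) (Obs.append (Obs.of rep2 ob50_ok) (Obs.append (Obs.of rep2 ob51_ok) (Obs.append (Obs.of rep2 ob52_ok) (Obs.append (Obs.of rep2 ob53_ok) (Obs.append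 (Obs.of rep2 ob54_ok) (Obs.append (Obs.of rep2 ob55_ok) (Obs.append (Obs.of rep2 ob56_ok) (Obs.append (Obs.of rep2 ob57_ok) (Obs.append (Obs.of rep2 ob58_ok) (Obs.append (Obs.of rep2 ob59_ok) (Obs.append (Obs.of rep2 ob60_ok) (Obs.append (Obs.of rep2 ob61_ok) (Obs.append (Obs.of rep2 ob62_ok) (Obs.append (Obs.of rep2 ob63_ok) (Obs.append (Obs.of rep2 ob64_ok) (Obs.append (Obs.of rep2 ob65_ok) (Obs.append (Obs.of rep2 ob66_ok) (Obs.append (Obs.of rep2 ob67_ok) (Obs.append (Obs.of rep2 ob68_ok) (Obs.append (Obs.of rep2 ob69_ok) (Obs.append (Obs.of rep2 ob70_ok) (Obs.append (Obs.of rep2 ob71_ok) (Obs.append (Obs.of rep2 ob72_ok) (Obs.append (Obs.of rep2 ob73_ok) (Obs.append (Obs.of rep2 ob74_ok) (Obs.append (Obs.of rep2 ob75_ok) (Obs.append (Obs.of rep2 ob76_ok) (Obs.append (Obs.of rep2 ob77_ok) (Obs.append (Obs.of rep2 ob78_ok) (Obs.append (Obs.of rep2 ob79_ok) (Obs.append (Obs.of rep2 ob80_ok) (Obs.append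 (Obs.of rep2 ob81_ok) (Obs.append (Obs.of rep2 ob82_ok) (Obs.append (Obs.of rep2 ob83_ok) (Obs.append (Obs.of rep2 ob84_ok) (Obs.append (Obs.of rep2 ob85_ok) (Obs.append (Obs.of rep2 ob86_ok) (Obs.append (Obs.of rep2 ob87_ok) (Obs.append (Obs.of rep2 ob88_ok) (Obs.append (Obs.of rep2 ob89_ok) (Obs.append (Obs.of rep2 ob90_ok) (Obs.append (Obs.of rep2 ob91_ok) (Obs.append (Obs.of rep2 ob92_ok) (Obs.append (Obs.of rep2 ob93_ok) (Obs.append (Obs.of rep2 ob94_ok) (Obs.append (Obs.of rep2 ob95_ok) (Obs.append (Obs.of rep2 ob96_ok) (Obs.append (Obs.of rep2 ob97_ok) (Obs.append (Obs.of rep2 ob98_ok) (Obs.append (Obs.of rep2 ob99_ok) (Obs.append (Obs.of rep2 ob100_ok) (Obs.append (Obs.of rep2 ob101_ok) (Obs.append (Obs.of rep2 ob102_ok) (Obs.append (Obs.of rep2 ob103_ok) (Obs.of rep2 ob104_ok))))))))))))))))))))))))))))))))))))))))))))))))))))))))))))))))))))))))))))))))))))))))))))))))))))))))))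
    (gen_top_of_eq rep.top ext2.2) gE (by decide +kernel) beta.choose
    (not_inner rep2 cl bE (by decide +kernel) non beta.choose_spec)


end Cfsg.Agent.Comp.ON
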