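import Cfsg.Agent.Comp.ON.OutD

set_option autoImplicit false
set_option maxRecDepth 100000

namespace Cfsg.Agent.Comp.ON
open Cfsg.Agent.Comp

theorem cxE : ∀ e ∈ (cenE cxg cxW [([8], [[0]]), ([9], [[0, 0, 0, 0, 0, 0, 0, 0, 0, 0, 0, 0]])]), ev s2 e.1 = ev s2 e.2 :=
  rep2.eqB inj base (by decide +kernel)

theorem cx1T : stepB (nat_lit 21) (nat_lit 122760) (nat_lit 17) T2 Is cxg cxW cxV [] [] [[0]] [(1, [])] 0 [0] [] [[0]] [[0],
[1]] [] [] = true := by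
  decide +kernel

theorem cx2S : srcB (nat_lit 21) (nat_lit 122760) (nat_lit 17) T2 Is cxg [(0, 0)] cx2D [] 1 [6, 2, 6] cx2P = true := by
  decide +kernel

theorem cx2L0_ok : leafB (nat_lit 21) (nat_lit 122760) (nat_lit 17) T2 Is cxg cx2D [] cx2P cx2L0 = true := by
  decide +kernel

theorem cx2L1_ok : leafB (nat_lit 21) (nat_lit 122760) (nat_lit 17) T2 Is cxg cx2D [] cx2P cx2L1 = true := by
  decide +kernel

theorem cx2L2_ok : leafB (nat_lit 21) (nat_lit 122760) (nat_lit 17) T2 Is cxg cx2D [] cx2P cx2L2 = true := by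
  decide +kernel

theorem cx2L3_ok : leafB (nat_lit 21) (nat_lit 122760) (nat_lit 17) T2 Is cxg cx2D [] cx2P cx2L3 = true := by
  decide +kernel

theorem cx2L4_ok : leafB (nat_lit 21) (nat_lit 122760) (nat_lit 17) T2 Is cxg cx2D [] cx2P cx2L4 = true := by
  decide +kernel

theorem cx2L5_ok : leafB (nat_lit 21) (nat_lit 122760) (nat_lit 17) T2 Is cxg cx2D [] cx2P cx2L5 = true := by
  decide +kernel

theorem cx2L6_ok : leafB (nat_lit 21) (nat_lit 122760) (nat_lit 17) T2 Is cxg cx2D [] cx2P cx2L6 = true := by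
  decide +kernel

theorem cx2L7_ok : leafB (nat_lit 21) (nat_lit 122760) (nat_lit 17) T2 Is cxg cx2D [] cx2P cx2L7 = true := by
  decide +kernel

theorem cx2L8_ok : leafB (nat_lit 21) (nat_lit 122760) (nat_lit 17) T2 Is cxg cx2D [] cx2P cx2L8 = true := by
  decide +kernel

theorem cx2L9_ok : leafB (nat_lit 21) (nat_lit 122760) (nat_lit 17) T2 Is cxg cx2D [] cx2P cx2L9 = true := by
  decide +kernel

theorem cx2L10_ok : leafB (nat_lit 21) (nat_lit 122760) (nat_lit 17) T2 Is cxg cx2D [] cx2P cx2L10 = true := by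
  decide +kernel

theorem cx2L11_ok : leafB (nat_lit 21) (nat_lit 122760) (nat_lit 17) T2 Is cxg cx2D [] cx2P cx2L11 = true := by
  decide +kernel

theorem cx2L12_ok : leafB (nat_lit 21) (nat_lit 122760) (nat_lit 17) T2 Is cxg cx2D [] cx2P cx2L12 = true := by
  decide +kernel

theorem cx2L13_ok : leafB (nat_lit 21) (nat_lit 122760) (nat_lit 17) T2 Is cxg cx2D [] cx2P cx2L13 = true := by
  decide +kernel

theorem cx2T : stepB (nat_lit 21) (nat_lit 122760) (nat_lit 17) T2 Is cxg cxW cxV [(0, 0)] [(0, 0, [], [], [1])] [] [(0, [])] 1 [1] cx2B [[0]] [[0, 0, 1, 1, 1]] [0, 0, 0, 0, 0, 0, 0, 0, 0, 0, 0, 0, 0, 0, 0, 0, 0, 0] [0, 0, 0, 0, 0, 1, 0, 0, 0, 0, 0, 0, 1, 0] = true := by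
  decide +kernel

theorem cx3T : stepB (nat_lit 21) (nat_lit 122760) (nat_lit 17) T2 Is cxg cxW cxV [(1, 1), (0, 0)] [(1, 1, [6, 2, 6], [6, 2, 6], [3, 4]), (0, 0, [], [], [1])] [] [(2, []), (0, [0]), (0, [0, 0]), (1, [0, 0]), (1, [0]), (1, [0]), (1, [0]), (0, [0]), (1, [0, 0, 0]), (0, [])] 320 [320] [] [] [] [] [] = true := by
  decide +kernel

theorem cyE : ∀ e ∈ (cenE cyg cyW [([9], [[0]]), ([11], [[0]]), ([12], [[0]]), ([10], [[0, 0, 0, 0, 0]])]), ev s2 e.1 = ev s2 e.2 :=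
  rep2.eqB inj base (by decide +kernel)

theorem cy1S : srcB (nat_lit 21) (nat_lit 122760) (nat_lit 17) T2 Is cyg [(11713, 62554), (0, 11264)] cy1D [] 61992 [11, 1, 0, 2] cy1P = true := by
  decide +kernel

theorem cy1L0_ok : leafB (nat_lit 21) (nat_lit 122760) (nat_lit 17) T2 Is cyg cy1D [] cy1P cy1L0 = true := by
  decide +kernel

theorem cy1T : stepB (nat_lit 21) (nat_lit 122760) (nat_lit 17) T2 Is cyg cyW cyV [(11713, 62554), (0, 11264)] [(11713, 62554, [10, 12, 1], [10, 1], [1, 4]), (0, 11264, [], [10, 1, 13], [3])] [[0, 0, 0]] [(4, []), (0, []), (2, [0]), (1, [0]), (1, [])] 61992 [] cy1B [[0, 0, 0]] [[0, 0, 0]] [] [] = true := by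
  decide +kernel

theorem cy2T : stepB (nat_lit 21) (nat_lit 122760) (nat_lit 17) T2 Is cyg cyW cyV [(0, 11264)] [(0, 11264, [], [10, 1, 13], [2])] [[0, 0],
[0, 0, 0]] [(4, []), (0, []), (1, [])] 11713 [] cy2B [[2, 1, 1, 1, 0],
[2]] [[0, 0, 0]] [] [1, 0, 0, 0, 0, 0] = true := by
  decide +kernel

theorem cy3T : stepB (nat_lit 21) (nat_lit 122760) (nat_lit 17) T2 Is cyg cyW cyV [] [] [[0]] [(1, [])] 0 [0] cy3B [[2, 1],
[1, 0]] [[0],
[3, 1],
[1, 1, 1]] [0, 1, 1] [0, 0] = true := by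
  decide +kernel

theorem cy4T : stepB (nat_lit 21) (nat_lit 122760) (nat_lit 17) T2 Is cyg cyW cyV [(8042, 6956), (0, 0)] [(8042, 6956, [6, 9, 11, 1, 2], [14, 11, 1, 11], [1, 3, 4]), (0, 0, [], [], [4])] [[0, 0, 0]] [(5, []), (1, []), (3, [0]), (2, [0]), (0, [])] 95756 [] [] [[0, 0, 0]] [[0, 0, 0]] [] [] = true := by
  decide +kernel

theorem cy5S : srcB (nat_lit 21) (nat_lit 122760) (nat_lit 17) T2 Is cyg [(0, 0)] cy5D [] 8042 [6, 9, 11, 1, 2] cy5P = true := by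
  decide +kernel

theorem cy5L0_ok : leafB (nat_lit 21) (nat_lit 122760) (nat_lit 17) T2 Is cyg cy5D [] cy5P cy5L0 = true := by
  decide +kernel

theorem cy5T : stepB (nat_lit 21) (nat_lit 122760) (nat_lit 17) T2 Is cyg cyW cyV [(0, 0)] [(0, 0, [], [], [2])] [[0, 0],
[0, 0, 0]] [(4, []), (0, []), (1, [])] 8042 [8042] cy5B [[0],
[1, 1, 1]] [[0, 0, 0],
[1, 1, 3]] [0, 0, 1] [0, 0, 1, 3] = true := by
  decide +kernel

theorem cy6S : srcB (nat_lit 21) (nat_lit 122760) (nat_lit 17) T2 Is cyg [(8042, 8042), (0, 0)] cy6D [] 63360 [11, 1, 9, 14] cy6P = true := by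
  decide +kernel

theorem cy6L0_ok : leafB (nat_lit 21) (nat_lit 122760) (nat_lit 17) T2 Is cyg cy6D [] cy6P cy6L0 = true := by
  decide +kernel

theorem cy6T : stepB (nat_lit 21) (nat_lit 122760) (nat_lit 17) T2 Is cyg cyW cyV [(8042, 8042), (0, 0)] [(8042, 8042, [6, 9, 11, 1, 2], [6, 9, 11, 1, 2], [2, 4]), (0, 0, [], [], [3])] [[0, 0, 0]] [(4, []), (0, []), (2, [0]), (1, [0]), (1, [])] 63360 [63360] cy6B [[0, 0, 0]] [[0, 0, 0]] [] [] = true := by
  decide +kernel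

theorem cy7S : srcB (nat_lit 21) (nat_lit 122760) (nat_lit 17) T2 Is cyg [(63360, 63360), (8042, 8042), (0, 0)] cy7D [] 320 [11, 8, 0, 14, 11] cy7P = true := by
  decide +kernel

theorem cy7L0_ok : leafB (nat_lit 21) (nat_lit 122760) (nat_lit 17) T2 Is cyg cy7D [] cy7P cy7L0 = true := by
  decide +kernel


end Cfsg.Agent.Comp.ON
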