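import Cfsg.Agent.Comp.ON.OutR

set_option autoImplicit false
set_option maxRecDepth 100000

namespace Cfsg.Agent.Comp.ON
open Cfsg.Agent.Comp

def cxg : List (List Nat) := [[8]]

def cxW : List (List Nat) := [[8]]

def cxV : List (List Nat) := [[8],
[9]]

def cx2D : Ds := []

def cx2P : Pats :=
  [([0, 3], [(0, [0]), (1, [])], 1),
   ([0, 1], [(0, [0, 0]), (1, [])], 1),
   ([0, 3], [(0, [0, 0, 0, 0]), (1, [])], 1),
   ([0, 4], [(0, [0, 0, 0]), (1, [])], 1)]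

def cx2L0 : List (Nat × List Nat × Nat) :=
  [(84, [12], 0),
   (58, [12, 4], 0),
   (60, [12, 0], 1),
   (119, [12, 3], 0),
   (1178, [13, 16], 0),
   (1337, [14, 18], 0),
   (2882, [13, 20], 0),
   (3566, [13, 19], 0),
   (14, [15, 17, 9], 0),
   (40, [6, 12, 10], 1),
   (42, [12, 0, 1], 0),
   (48, [12, 16, 7], 0),
   (56, [12, 16, 6], 1),
   (69, [13, 20, 9], 1),
   (98, [6, 10, 20], 0),
   (167, [12, 3, 2], 1)]

def cx2L1 : List (Nat × List Nat × Nat) :=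
  [(240, [12, 8, 5], 0),
   (242, [12, 8, 0], 0),
   (281, [12, 8, 3], 0),
   (283, [14, 7, 11], 0),
   (415, [20, 11, 13], 0),
   (446, [14, 0, 14], 0),
   (451, [17, 20, 16], 0),
   (579, [10, 8, 20], 0),
   (625, [17, 8, 16], 1),
   (679, [16, 0, 19], 0),
   (741, [15, 6, 15], 0),
   (775, [12, 8, 7], 0),
   (890, [13, 16, 0], 1),
   (892, [13, 16, 4], 0)]

def cx2L2 : List (Nat × List Nat × Nat) :=
  [(897, [13, 16, 2], 1),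
   (1008, [14, 18, 2], 1),
   (1036, [20, 4, 11], 0),
   (1043, [15, 14, 13], 0),
   (1051, [13, 16, 5], 0),
   (1158, [14, 16, 3], 0),
   (1172, [13, 19, 9], 0),
   (1203, [16, 19, 17], 2),
   (1208, [20, 11, 17], 1),
   (1214, [17, 16, 20], 1),
   (1357, [20, 0, 19], 1),
   (1376, [20, 10, 14], 1),
   (1392, [15, 7, 15], 1)]

def cx2L3 : List (Nat × List Nat × Nat) :=
  [(1473, [10, 8, 19], 0),
   (1662, [20, 0, 20], 1),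
   (1676, [12, 5, 9], 0),
   (1726, [19, 10, 6], 0),
   (1759, [14, 18, 1], 0),
   (1760, [14, 18, 3], 1),
   (1790, [19, 10, 7], 0),
   (1792, [20, 5, 16], 0),
   (1889, [13, 11, 7], 1),
   (1901, [13, 3, 20], 1),
   (1991, [10, 8, 11], 1),
   (2002, [19, 8, 18], 0),
   (2007, [14, 16, 4], 1),
   (2067, [12, 0, 11], 1)]

def cx2L4 : List (Nat × List Nat × Nat) :=
  [(2069, [12, 0, 9], 1),
   (2107, [19, 0, 19], 1),
   (2119, [15, 4, 20], 0),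
   (2210, [17, 16, 18], 1),
   (2256, [13, 20, 4], 0),
   (2264, [14, 6, 19], 1),
   (2265, [13, 20, 3], 1),
   (2269, [15, 17, 3], 1),
   (2284, [10, 4, 20], 0),
   (2360, [14, 17, 3], 1),
   (2407, [17, 3, 6], 1),
   (2519, [19, 3, 13], 0),
   (2607, [14, 13, 6], 1)]

def cx2L5 : List (Nat × List Nat × Nat) :=
  [(2673, [10, 12, 6], 1),
   (2760, [13, 20, 2], 0),
   (2914, [13, 19, 2], 0),
   (3029, [6, 13, 14], 1),
   (3066, [14, 7, 14], 0),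
   (3121, [10, 6, 10], 0),
   (3146, [10, 8, 10], 1),
   (3197, [20, 11, 20], 1),
   (3208, [6, 10, 6], 0),
   (3281, [19, 5, 13], 0),
   (3311, [13, 19, 5], 0),
   (3326, [6, 10, 7], 1),
   (3334, [13, 1, 20], 3),
   (3408, [10, 6, 16], 0)]

def cx2L6 : List (Nat × List Nat × Nat) :=
  [(3504, [14, 20, 11], 1),
   (3518, [19, 4, 10], 0),
   (3666, [15, 1, 19], 0),
   (3765, [13, 19, 0], 0),
   (3788, [19, 3, 16], 1),
   (3949, [20, 8, 13], 0),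
   (4056, [11, 4, 10], 1),
   (4137, [13, 19, 1], 1),
   (4138, [13, 19, 3], 1),
   (4247, [19, 1, 13], 0),
   (4394, [10, 19, 14], 0),
   (4425, [20, 10, 19], 1),
   (4601, [20, 0, 16], 1),
   (4610, [13, 12, 19], 0)]

def cx2L7 : List (Nat × List Nat × Nat) :=
  [(4757, [15, 8, 13], 1),
   (4912, [20, 7, 14], 1),
   (5245, [10, 7, 11], 1),
   (5263, [6, 16, 12], 0),
   (5267, [6, 17, 12], 1),
   (5297, [11, 4, 11], 0),
   (9, [15, 17, 9, 1], 0),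
   (19, [15, 17, 9, 3], 1),
   (23, [6, 9, 16, 18], 1),
   (54, [15, 14, 0, 20], 0),
   (71, [6, 10, 20, 2], 1),
   (75, [6, 10, 20, 4], 0)]

def cx2L8 : List (Nat × List Nat × Nat) :=
  [(81, [12, 16, 6, 1], 3),
   (140, [6, 10, 20, 0], 1),
   (153, [16, 18, 7, 11], 0),
   (169, [12, 8, 0, 5], 0),
   (201, [14, 7, 11, 3], 0),
   (202, [12, 8, 11, 19], 0),
   (216, [11, 5, 11, 14], 1),
   (221, [14, 0, 6, 20], 0),
   (227, [10, 6, 10, 9], 0),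
   (238, [12, 3, 2, 5], 1),
   (239, [12, 3, 5, 4], 1)]

def cx2L9 : List (Nat × List Nat × Nat) :=
  [(300, [20, 11, 13, 3], 1),
   (311, [20, 11, 13, 0], 1),
   (328, [14, 17, 12, 6], 0),
   (337, [12, 8, 3, 5], 1),
   (340, [12, 5, 8, 0], 0),
   (345, [20, 11, 7, 20], 0),
   (418, [14, 9, 11, 20], 0),
   (437, [6, 2, 4, 20], 0),
   (463, [17, 8, 16, 2], 1),
   (504, [19, 9, 20, 10], 0),
   (515, [16, 0, 19, 0], 1)]

def cx2L10 : List (Nat × List Nat × Nat) :=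
  [(556, [15, 6, 15, 5], 0),
   (562, [6, 1, 15, 17], 0),
   (564, [13, 20, 9, 9], 0),
   (582, [10, 19, 0, 12], 0),
   (615, [14, 1, 2, 6], 0),
   (623, [10, 14, 1, 17], 0),
   (634, [19, 8, 9, 7], 0),
   (640, [15, 18, 6, 9], 0),
   (672, [13, 16, 0, 2], 0),
   (709, [15, 1, 15, 5], 0),
   (738, [15, 6, 15, 2], 0)]

def cx2L11 : List (Nat × List Nat × Nat) :=
  [(747, [13, 19, 2, 9], 0),
   (758, [12, 8, 8, 3], 1),
   (762, [10, 8, 20, 1], 1),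
   (811, [11, 7, 12, 6], 1),
   (818, [14, 2, 12, 6], 1),
   (886, [13, 19, 9, 2], 1),
   (894, [11, 18, 6, 13], 1),
   (1025, [19, 8, 3, 17], 0),
   (1038, [10, 20, 2, 16], 1),
   (1068, [13, 17, 12, 11], 0),
   (1146, [13, 6, 20, 16], 0)]

def cx2L12 : List (Nat × List Nat × Nat) :=
  [(1185, [19, 6, 3, 11], 1),
   (1206, [14, 6, 2, 11], 1),
   (1218, [6, 13, 18, 6], 0),
   (1249, [13, 14, 0, 19], 0),
   (1288, [20, 10, 14, 3], 0),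
   (1293, [10, 19, 12, 16], 1),
   (1438, [14, 5, 20, 6], 1),
   (1448, [13, 3, 20, 5], 1),
   (1452, [13, 3, 20, 1], 0),
   (1459, [20, 11, 7, 13], 0),
   (1461, [12, 0, 1, 12], 0)]

def cx2L13 : List (Nat × List Nat × Nat) :=
  [(1591, [19, 6, 8, 16], 1),
   (1842, [13, 12, 3, 17], 1),
   (1952, [13, 20, 12, 13], 0),
   (2075, [10, 12, 6, 4], 0),
   (2086, [19, 3, 13, 0], 1),
   (4620, [11, 12, 19, 6], 1)]

def cx2B : List Nat := [84, 58, 60, 119, 1178, 1337, 2882, 3566, 14, 40, 42, 48, 56, 69, 98, 167, 240, 242, 281, 283, 415, 446, 451, 579, 625, 679, 741, 775, 890, 892, 897, 1008, 1036, 1043, 1051, 1158, 1172, 1203, 1208, 1214, 1357, 1376, 1392, 1473, 1662, 1676, 1726, 1759, 1760, 1790, 1792, 1889, 1901, 1991, 2002, 2007, 2067, 2069, 2107, 2119, 2210, 2256, 2264, 2265, 2269, 2284, 2360, 2407, 2519, 2607, 2673, 2760, 2914, 3029, 3066, 3121,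 3146, 3197, 3208, 3281, 3311, 3326, 3334, 3408, 3504, 3518, 3666, 3765, 3788, 3949, 4056, 4137, 4138, 4247, 4394, 4425, 4601, 4610, 4757, 4912, 5245, 5263, 5267, 5297, 9, 19, 23, 54, 71, 75, 81, 140, 153, 169, 201, 202, 216, 221, 227, 238, 239, 300, 311, 328, 337, 340, 345, 418, 437, 463, 504, 515, 556, 562, 564, 582, 615, 623, 634, 640, 672, 709, 738, 747, 758, 762, 811, 818, 886, 894, 1025, 1038, 1068, 1146, 1185, 1206, 1218, 1249, 1288, 1293, 1438, 1448, 1452, 1459, 1461, 1591, 1842, 1952, 2075, 2086, 4620]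

def cyg : List (List Nat) := [[9]]

def cyW : List (List Nat) := [[9],
[11],
[12]]

def cyV : List (List Nat) := [[9],
[11],
[12],
[10]]

def cy1D : Ds := []

def cy1P : Pats :=
  [([0, 2], [(0, [0]), (1, [])], 61992)]

def cy1L0 : List (Nat × List Nat × Nat) :=
  [(116561, [19, 8, 7], 0),
   (80450, [15, 17, 3, 16], 0),
   (111038, [18, 6, 20, 10], 0),
   (11254, [6, 9, 8, 7, 8], 0),
   (98210, [10, 1, 12, 13, 12], 0)]

def cy1B : List Nat := [116561, 80450, 111038, 11254, 98210]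

def cy2B : List Nat := [62554]

def cy3B : List Nat := [11264]

def cy5D : Ds := [(0, 0, [], [], [4])]

def cy5P : Pats :=
  [([0, 3], [(0, [0]), (1, [])], 8042),
   ([2], [(0, []), (1, [0]), (0, [0]), (0, [])], 114917)]

def cy5L0 : List (Nat × List Nat × Nat) :=
  [(10661, [12, 14], 0),
   (7371, [14, 1, 12], 1),
   (8059, [13, 19, 6], 0),
   (11536, [11, 12, 1], 0)]

def cy5B : List Nat := [10661, 7371, 8059, 11536, 6956]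

def cy6D : Ds := [(8042, 8042, [6, 9, 11, 1, 2], [6, 9, 11, 1, 2], [2, 3, 4]), (0, 0, [], [], [1, 2])]

def cy6P : Pats :=
  [([2, 3], [(0, []), (2, []), (6, [0]), (1, [0]), (2, []), (1, [])], 5991),
   ([1, 3, 4], [(0, []), (6, []), (5, [0]), (4, []), (2, [0]), (1, []), (5, [])], 1072)]

def cy6L0 : List (Nat × List Nat × Nat) :=
  [(59582, [14, 1, 10], 0),
   (59036, [10, 14, 11, 1], 1),
   (61678, [10, 14, 9, 10], 0),
   (63344, [11, 1, 10, 11], 0)]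

def cy6B : List Nat := [59582, 59036, 61678, 63344]

def cy7D : Ds := []

def cy7P : Pats :=
  [([0, 4], [(0, [0]), (1, [])], 320)]

def cy7L0 : List (Nat × List Nat × Nat) :=
  [(786, [15, 14, 13, 4], 0),
   (4659, [10, 8, 9, 10], 0)]

def cy7B : List Nat := [786, 4659]

def Cl : List (List Nat) :=
  [[],
   [9],
   [11],
   [12],
   [9, 9],
   [11, 9],
   [12, 9],
   [11, 11],
   [12, 11],
   [11, 12],
   [9, 9, 9],
   [11, 9, 9],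
   [12, 9, 9],
   [11, 11, 9],
   [12, 11, 9],
   [11, 12, 9],
   [11, 11, 11],
   [12, 11, 11],
   [11, 12, 11],
   [12, 11, 12],
   [9, 9, 9, 9],
   [12, 9, 9, 9],
   [11, 11, 9, 9],
   [12, 11, 9, 9],
   [11, 12, 9, 9],
   [11, 11, 11, 9],
   [12, 11, 11, 9],
   [11, 12, 11, 9],
   [12, 11, 12, 9],
   [11, 11, 11, 11],
   [12, 11, 11, 11],
   [11, 12, 11, 11],
   [12, 11, 12, 11],
   [9, 9, 9, 9, 9],
   [12, 9, 9, 9, 9],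
   [11, 11, 11, 9, 9],
   [12, 11, 11, 9, 9],
   [11, 12, 11, 9, 9],
   [12, 11, 12, 9, 9],
   [11, 11, 11, 11, 9],
   [12, 11, 11, 11, 9],
   [11, 12, 11, 11, 9],
   [12, 11, 12, 11, 9],
   [11, 11, 11, 11, 11],
   [12, 11, 11, 11, 11],
   [11, 12, 11, 11, 11],
   [12, 11, 12, 11, 11],
   [12, 9, 9, 9, 9, 9],
   [11, 11, 11, 11, 9, 9],
   [12, 11, 11, 11, 9, 9],
   [11, 12, 11, 11, 9, 9],
   [12, 11, 12, 11, 9, 9],
   [11, 11, 11, 11, 11, 9],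
   [12, 11, 11, 11, 11, 9],
   [11, 12, 11, 11, 11, 9],
   [12, 11, 12, 11, 11, 9],
   [12, 11, 11, 11, 11, 11],
   [11, 12, 11, 11, 11, 11],
   [12, 11, 12, 11, 11, 11],
   [11, 11, 11, 11, 11, 9, 9],
   [12, 11, 11, 11, 11, 9, 9],
   [11, 12, 11, 11, 11, 9, 9],
   [12, 11, 12, 11, 11, 9, 9],
   [12, 11, 11, 11, 11, 11, 9],
   [11, 12, 11, 11, 11, 11, 9],
   [12, 11, 12, 11, 11, 11, 9],
   [12, 11, 12, 11, 11, 11, 11],
   [12, 11, 11, 11, 11, 11, 9, 9],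
   [11, 12, 11, 11, 11, 11, 9, 9],
   [12, 11, 12, 11, 11, 11, 9, 9],
   [12, 11, 12, 11, 11, 11, 11, 9],
   [12, 11, 12, 11, 11, 11, 11, 9, 9]]

def clL : List (List Nat × List Nat) :=
  [([9], [9]),
   ([9, 9], [9, 9]),
   ([9, 11], [11, 9]),
   ([9, 12], [12, 9]),
   ([9, 9, 9], [9, 9, 9]),
   ([9, 11, 9], [11, 9, 9]),
   ([9, 12, 9], [12, 9, 9]),
   ([9, 11, 11], [11, 11, 9]),
   ([9, 12, 11], [12, 11, 9]),
   ([9, 11, 12], [11, 12, 9]),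
   ([9, 9, 9, 9], [9, 9, 9, 9]),
   ([9, 11, 9, 9], [12, 11, 12]),
   ([9, 12, 9, 9], [12, 9, 9, 9]),
   ([9, 11, 11, 9], [11, 11, 9, 9]),
   ([9, 12, 11, 9], [12, 11, 9, 9]),
   ([9, 11, 12, 9], [11, 12, 9, 9]),
   ([9, 11, 11, 11], [11, 11, 11, 9]),
   ([9, 12, 11, 11], [12, 11, 11, 9]),
   ([9, 11, 12, 11], [11, 12, 11, 9]),
   ([9, 12, 11, 12], [12, 11, 12, 9]),
   ([9, 9, 9, 9, 9], [9, 9, 9, 9, 9]),
   ([9, 12, 9, 9, 9], [12, 9, 9, 9, 9]),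
   ([9, 11, 11, 9, 9], [12, 11, 12, 11]),
   ([9, 12, 11, 9, 9], [11, 12]),
   ([9, 11, 12, 9, 9], [12, 11]),
   ([9, 11, 11, 11, 9], [11, 11, 11, 9, 9]),
   ([9, 12, 11, 11, 9], [12, 11, 11, 9, 9]),
   ([9, 11, 12, 11, 9], [11, 12, 11, 9, 9]),
   ([9, 12, 11, 12, 9], [12, 11, 12, 9, 9]),
   ([9, 11, 11, 11, 11], [11, 11, 11, 11, 9]),
   ([9, 12, 11, 11, 11], [12, 11, 11, 11, 9]),
   ([9, 11, 12, 11, 11], [11, 12, 11, 11, 9]),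
   ([9, 12, 11, 12, 11], [12, 11, 12, 11, 9]),
   ([9, 9, 9, 9, 9, 9], []),
   ([9, 12, 9, 9, 9, 9], [12, 9, 9, 9, 9, 9]),
   ([9, 11, 11, 11, 9, 9], [12, 11, 12, 11, 11]),
   ([9, 12, 11, 11, 9, 9], [11, 12, 11]),
   ([9, 11, 12, 11, 9, 9], [12, 11, 11]),
   ([9, 12, 11, 12, 9, 9], [11]),
   ([9, 11, 11, 11, 11, 9], [11, 11, 11, 11, 9, 9]),
   ([9, 12, 11, 11, 11, 9], [12, 11, 11, 11, 9, 9]),
   ([9, 11, 12, 11, 11, 9], [11, 12, 11, 11, 9, 9]),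
   ([9, 12, 11, 12, 11, 9], [12, 11, 12, 11, 9, 9]),
   ([9, 11, 11, 11, 11, 11], [11, 11, 11, 11, 11, 9]),
   ([9, 12, 11, 11, 11, 11], [12, 11, 11, 11, 11, 9]),
   ([9, 11, 12, 11, 11, 11], [11, 12, 11, 11, 11, 9]),
   ([9, 12, 11, 12, 11, 11], [12, 11, 12, 11, 11, 9]),
   ([9, 12, 9, 9, 9, 9, 9], [12]),
   ([9, 11, 11, 11, 11, 9, 9], [12, 11, 12, 11, 11, 11]),
   ([9, 12, 11, 11, 11, 9, 9], [11, 12, 11, 11]),
   ([9, 11, 12, 11, 11, 9, 9], [12, 11, 11, 11]),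
   ([9, 12, 11, 12, 11, 9, 9], [11, 11]),
   ([9, 11, 11, 11, 11, 11, 9], [11, 11, 11, 11, 11, 9, 9]),
   ([9, 12, 11, 11, 11, 11, 9], [12, 11, 11, 11, 11, 9, 9]),
   ([9, 11, 12, 11, 11, 11, 9], [11, 12, 11, 11, 11, 9, 9]),
   ([9, 12, 11, 12, 11, 11, 9], [12, 11, 12, 11, 11, 9, 9]),
   ([9, 12, 11, 11, 11, 11, 11], [12, 11, 11, 11, 11, 11, 9]),
   ([9, 11, 12, 11, 11, 11, 11], [11, 12, 11, 11, 11, 11, 9]),
   ([9, 12, 11, 12, 11, 11, 11], [12, 11, 12, 11, 11, 11, 9]),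
   ([9, 11, 11, 11, 11, 11, 9, 9], [12, 11, 12, 11, 11, 11, 11]),
   ([9, 12, 11, 11, 11, 11, 9, 9], [11, 12, 11, 11, 11]),
   ([9, 11, 12, 11, 11, 11, 9, 9], [12, 11, 11, 11, 11]),
   ([9, 12, 11, 12, 11, 11, 9, 9], [11, 11, 11]),
   ([9, 12, 11, 11, 11, 11, 11, 9], [12, 11, 11, 11, 11, 11, 9, 9]),
   ([9, 11, 12, 11, 11, 11, 11, 9], [11, 12, 11, 11, 11, 11, 9, 9]),
   ([9, 12, 11, 12, 11, 11, 11, 9], [12, 11, 12, 11, 11, 11, 9, 9]),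
   ([9, 12, 11, 12, 11, 11, 11, 11], [12, 11, 12, 11, 11, 11, 11, 9]),
   ([9, 12, 11, 11, 11, 11, 11, 9, 9], [11, 12, 11, 11, 11, 11]),
   ([9, 11, 12, 11, 11, 11, 11, 9, 9], [12, 11, 11, 11, 11, 11]),
   ([9, 12, 11, 12, 11, 11, 11, 9, 9], [11, 11, 11, 11]),
   ([9, 12, 11, 12, 11, 11, 11, 11, 9], [12, 11, 12, 11, 11, 11, 11, 9, 9]),
   ([9, 12, 11, 12, 11, 11, 11, 11, 9, 9], [11, 11, 11, 11, 11]),
   ([11], [11]),
   ([11, 9], [11, 9]),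
   ([11, 11], [11, 11]),
   ([11, 12], [11, 12]),
   ([11, 9, 9], [11, 9, 9]),
   ([11, 11, 9], [11, 11, 9]),
   ([11, 12, 9], [11, 12, 9]),
   ([11, 11, 11], [11, 11, 11]),
   ([11, 12, 11], [11, 12, 11]),
   ([11, 11, 12], [12, 11, 11]),
   ([11, 9, 9, 9], [12, 11, 12]),
   ([11, 11, 9, 9], [11, 11, 9, 9]),
   ([11, 12, 9, 9], [11, 12, 9, 9]),
   ([11, 11, 11, 9], [11, 11, 11, 9]),
   ([11, 12, 11, 9], [11, 12, 11, 9]),
   ([11, 11, 12, 9], [12, 11, 11, 9]),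
   ([11, 11, 11, 11], [11, 11, 11, 11]),
   ([11, 12, 11, 11], [11, 12, 11, 11]),
   ([11, 11, 12, 11], [12, 11, 11, 11]),
   ([11, 12, 11, 12], [12, 11, 12, 11]),
   ([11, 9, 9, 9, 9], [12, 11, 12, 9]),
   ([11, 12, 9, 9, 9], [12, 11]),
   ([11, 11, 11, 9, 9], [11, 11, 11, 9, 9]),
   ([11, 12, 11, 9, 9], [11, 12, 11, 9, 9]),
   ([11, 11, 12, 9, 9], [12, 11, 11, 9, 9]),
   ([11, 11, 11, 11, 9], [11, 11, 11, 11, 9]),
   ([11, 12, 11, 11, 9], [11, 12, 11, 11, 9]),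
   ([11, 11, 12, 11, 9], [12, 11, 11, 11, 9]),
   ([11, 12, 11, 12, 9], [12, 11, 12, 11, 9]),
   ([11, 11, 11, 11, 11], [11, 11, 11, 11, 11]),
   ([11, 12, 11, 11, 11], [11, 12, 11, 11, 11]),
   ([11, 11, 12, 11, 11], [12, 11, 11, 11, 11]),
   ([11, 12, 11, 12, 11], [12, 11, 12, 11, 11]),
   ([11, 9, 9, 9, 9, 9], [12, 11, 12, 9, 9]),
   ([11, 12, 9, 9, 9, 9], [12, 11, 9]),
   ([11, 11, 11, 11, 9, 9], [11, 11, 11, 11, 9, 9]),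
   ([11, 12, 11, 11, 9, 9], [11, 12, 11, 11, 9, 9]),
   ([11, 11, 12, 11, 9, 9], [12, 11, 11, 11, 9, 9]),
   ([11, 12, 11, 12, 9, 9], [12, 11, 12, 11, 9, 9]),
   ([11, 11, 11, 11, 11, 9], [11, 11, 11, 11, 11, 9]),
   ([11, 12, 11, 11, 11, 9], [11, 12, 11, 11, 11, 9]),
   ([11, 11, 12, 11, 11, 9], [12, 11, 11, 11, 11, 9]),
   ([11, 12, 11, 12, 11, 9], [12, 11, 12, 11, 11, 9]),
   ([11, 11, 11, 11, 11, 11], []),
   ([11, 12, 11, 11, 11, 11], [11, 12, 11, 11, 11, 11]),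
   ([11, 11, 12, 11, 11, 11], [12, 11, 11, 11, 11, 11]),
   ([11, 12, 11, 12, 11, 11], [12, 11, 12, 11, 11, 11]),
   ([11, 12, 9, 9, 9, 9, 9], [12, 11, 9, 9]),
   ([11, 11, 11, 11, 11, 9, 9], [11, 11, 11, 11, 11, 9, 9]),
   ([11, 12, 11, 11, 11, 9, 9], [11, 12, 11, 11, 11, 9, 9]),
   ([11, 11, 12, 11, 11, 9, 9], [12, 11, 11, 11, 11, 9, 9]),
   ([11, 12, 11, 12, 11, 9, 9], [12, 11, 12, 11, 11, 9, 9]),
   ([11, 11, 11, 11, 11, 11, 9], [9]),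
   ([11, 12, 11, 11, 11, 11, 9], [11, 12, 11, 11, 11, 11, 9]),
   ([11, 11, 12, 11, 11, 11, 9], [12, 11, 11, 11, 11, 11, 9]),
   ([11, 12, 11, 12, 11, 11, 9], [12, 11, 12, 11, 11, 11, 9]),
   ([11, 12, 11, 11, 11, 11, 11], [12, 9, 9, 9]),
   ([11, 11, 12, 11, 11, 11, 11], [12]),
   ([11, 12, 11, 12, 11, 11, 11], [12, 11, 12, 11, 11, 11, 11]),
   ([11, 11, 11, 11, 11, 11, 9, 9], [9, 9]),
   ([11, 12, 11, 11, 11, 11, 9, 9], [11, 12, 11, 11, 11, 11, 9, 9]),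
   ([11, 11, 12, 11, 11, 11, 9, 9], [12, 11, 11, 11, 11, 11, 9, 9]),
   ([11, 12, 11, 12, 11, 11, 9, 9], [12, 11, 12, 11, 11, 11, 9, 9]),
   ([11, 12, 11, 11, 11, 11, 11, 9], [12, 9, 9, 9, 9]),
   ([11, 11, 12, 11, 11, 11, 11, 9], [12, 9]),
   ([11, 12, 11, 12, 11, 11, 11, 9], [12, 11, 12, 11, 11, 11, 11, 9]),
   ([11, 12, 11, 12, 11, 11, 11, 11], [9, 9, 9]),
   ([11, 12, 11, 11, 11, 11, 11, 9, 9], [12, 9, 9, 9, 9, 9]),
   ([11, 11, 12, 11, 11, 11, 11, 9, 9], [12, 9, 9]),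
   ([11, 12, 11, 12, 11, 11, 11, 9, 9], [12, 11, 12, 11, 11, 11, 11, 9, 9]),
   ([11, 12, 11, 12, 11, 11, 11, 11, 9], [9, 9, 9, 9]),
   ([11, 12, 11, 12, 11, 11, 11, 11, 9, 9], [9, 9, 9, 9, 9]),
   ([12], [12]),
   ([12, 9], [12, 9]),
   ([12, 11], [12, 11]),
   ([12, 12], []),
   ([12, 9, 9], [12, 9, 9]),
   ([12, 11, 9], [12, 11, 9]),
   ([12, 12, 9], [9]),
   ([12, 11, 11], [12, 11, 11]),
   ([12, 12, 11], [11]),
   ([12, 11, 12], [12, 11, 12]),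
   ([12, 9, 9, 9], [12, 9, 9, 9]),
   ([12, 11, 9, 9], [12, 11, 9, 9]),
   ([12, 12, 9, 9], [9, 9]),
   ([12, 11, 11, 9], [12, 11, 11, 9]),
   ([12, 12, 11, 9], [11, 9]),
   ([12, 11, 12, 9], [12, 11, 12, 9]),
   ([12, 11, 11, 11], [12, 11, 11, 11]),
   ([12, 12, 11, 11], [11, 11]),
   ([12, 11, 12, 11], [12, 11, 12, 11]),
   ([12, 12, 11, 12], [11, 12]),
   ([12, 9, 9, 9, 9], [12, 9, 9, 9, 9]),
   ([12, 12, 9, 9, 9], [9, 9, 9]),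
   ([12, 11, 11, 9, 9], [12, 11, 11, 9, 9]),
   ([12, 12, 11, 9, 9], [11, 9, 9]),
   ([12, 11, 12, 9, 9], [12, 11, 12, 9, 9]),
   ([12, 11, 11, 11, 9], [12, 11, 11, 11, 9]),
   ([12, 12, 11, 11, 9], [11, 11, 9]),
   ([12, 11, 12, 11, 9], [12, 11, 12, 11, 9]),
   ([12, 12, 11, 12, 9], [11, 12, 9]),
   ([12, 11, 11, 11, 11], [12, 11, 11, 11, 11]),
   ([12, 12, 11, 11, 11], [11, 11, 11]),
   ([12, 11, 12, 11, 11], [12, 11, 12, 11, 11]),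
   ([12, 12, 11, 12, 11], [11, 12, 11]),
   ([12, 9, 9, 9, 9, 9], [12, 9, 9, 9, 9, 9]),
   ([12, 12, 9, 9, 9, 9], [9, 9, 9, 9]),
   ([12, 11, 11, 11, 9, 9], [12, 11, 11, 11, 9, 9]),
   ([12, 12, 11, 11, 9, 9], [11, 11, 9, 9]),
   ([12, 11, 12, 11, 9, 9], [12, 11, 12, 11, 9, 9]),
   ([12, 12, 11, 12, 9, 9], [11, 12, 9, 9]),
   ([12, 11, 11, 11, 11, 9], [12, 11, 11, 11, 11, 9]),
   ([12, 12, 11, 11, 11, 9], [11, 11, 11, 9]),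
   ([12, 11, 12, 11, 11, 9], [12, 11, 12, 11, 11, 9]),
   ([12, 12, 11, 12, 11, 9], [11, 12, 11, 9]),
   ([12, 11, 11, 11, 11, 11], [12, 11, 11, 11, 11, 11]),
   ([12, 12, 11, 11, 11, 11], [11, 11, 11, 11]),
   ([12, 11, 12, 11, 11, 11], [12, 11, 12, 11, 11, 11]),
   ([12, 12, 11, 12, 11, 11], [11, 12, 11, 11]),
   ([12, 12, 9, 9, 9, 9, 9], [9, 9, 9, 9, 9]),
   ([12, 11, 11, 11, 11, 9, 9], [12, 11, 11, 11, 11, 9, 9]),
   ([12, 12, 11, 11, 11, 9, 9], [11, 11, 11, 9, 9]),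
   ([12, 11, 12, 11, 11, 9, 9], [12, 11, 12, 11, 11, 9, 9]),
   ([12, 12, 11, 12, 11, 9, 9], [11, 12, 11, 9, 9]),
   ([12, 11, 11, 11, 11, 11, 9], [12, 11, 11, 11, 11, 11, 9]),
   ([12, 12, 11, 11, 11, 11, 9], [11, 11, 11, 11, 9]),
   ([12, 11, 12, 11, 11, 11, 9], [12, 11, 12, 11, 11, 11, 9]),
   ([12, 12, 11, 12, 11, 11, 9], [11, 12, 11, 11, 9]),
   ([12, 12, 11, 11, 11, 11, 11], [11, 11, 11, 11, 11]),
   ([12, 11, 12, 11, 11, 11, 11], [12, 11, 12, 11, 11, 11, 11]),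
   ([12, 12, 11, 12, 11, 11, 11], [11, 12, 11, 11, 11]),
   ([12, 11, 11, 11, 11, 11, 9, 9], [12, 11, 11, 11, 11, 11, 9, 9]),
   ([12, 12, 11, 11, 11, 11, 9, 9], [11, 11, 11, 11, 9, 9]),
   ([12, 11, 12, 11, 11, 11, 9, 9], [12, 11, 12, 11, 11, 11, 9, 9]),
   ([12, 12, 11, 12, 11, 11, 9, 9], [11, 12, 11, 11, 9, 9]),
   ([12, 12, 11, 11, 11, 11, 11, 9], [11, 11, 11, 11, 11, 9]),
   ([12, 11, 12, 11, 11, 11, 11, 9], [12, 11, 12, 11, 11, 11, 11, 9]),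
   ([12, 12, 11, 12, 11, 11, 11, 9], [11, 12, 11, 11, 11, 9]),
   ([12, 12, 11, 12, 11, 11, 11, 11], [11, 12, 11, 11, 11, 11]),
   ([12, 12, 11, 11, 11, 11, 11, 9, 9], [11, 11, 11, 11, 11, 9, 9]),
   ([12, 11, 12, 11, 11, 11, 11, 9, 9], [12, 11, 12, 11, 11, 11, 11, 9, 9]),
   ([12, 12, 11, 12, 11, 11, 11, 9, 9], [11, 12, 11, 11, 11, 9, 9]),
   ([12, 12, 11, 12, 11, 11, 11, 11, 9], [11, 12, 11, 11, 11, 11, 9]),
   ([12, 12, 11, 12, 11, 11, 11, 11, 9, 9], [11, 12, 11, 11, 11, 11, 9, 9])]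

def Rs : List (List Nat) :=
  [[0, 1, 1, 1, 0, 2, 0, 1, 1, 1, 0, 2],
   [0, 1, 0, 2, 0, 1, 0, 2, 0, 1, 0, 2, 0, 1, 0, 2, 0, 1, 0, 2, 0, 1, 0, 2],
   [0, 0, 2, 0, 0, 2, 1, 0, 0, 2, 0, 0, 2, 1, 0, 0, 2, 0, 0, 2, 1, 0, 0, 2, 0, 0, 2, 1]]

def GE : List (List Nat × List Nat) :=
  [([8, 10, 9, 8, 10, 8, 8, 8, 8, 10, 8, 8, 8, 10, 8, 10, 0], [9, 9, 9, 8, 10, 9, 8, 10, 8, 8, 8, 8, 10, 8, 8, 8, 10, 8, 10]),
   ([8, 1], [0, 8]),
   ([8, 2], [1, 8]),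
   ([9, 2, 8, 9, 1, 9, 3], [0, 9, 2, 8, 9, 1, 9]),
   ([9, 8, 9, 9, 4], [2, 9, 8, 9, 9]),
   ([3, 8, 4, 5], [4, 3, 8, 4]),
   ([10, 4, 9, 9, 2, 3, 9, 4, 3, 1, 10, 6], [3, 2, 3, 2, 10, 4, 9, 9, 2, 3, 9, 4, 3, 1, 10]),
   ([6, 7], [])]

def ob0 : List ((Nat × List Nat) × Nat) :=
  [((1, [12]), 0),
   ((1, [12, 9]), 0),
   ((1, [12, 9, 9]), 0),
   ((1, [12, 11, 11]), 0),
   ((1, [11, 12, 11]), 0),
   ((1, [12, 9, 9, 9]), 0),
   ((1, [12, 11, 11, 9]), 0),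
   ((1, [11, 12, 11, 9]), 0)]

def ob1 : List ((Nat × List Nat) × Nat) :=
  [((1, [12, 9, 9, 9, 9]), 0),
   ((1, [12, 11, 11, 9, 9]), 0),
   ((1, [11, 12, 11, 9, 9]), 0),
   ((1, [12, 11, 11, 11, 11]), 0),
   ((1, [11, 12, 11, 11, 11]), 0),
   ((1, [12, 9, 9, 9, 9, 9]), 0),
   ((1, [12, 11, 11, 11, 11, 9]), 0)]

def ob2 : List ((Nat × List Nat) × Nat) :=
  [((1, [11, 12, 11, 11, 11, 9]), 0),
   ((1, [12, 11, 11, 11, 11, 9, 9]), 0),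
   ((1, [11, 12, 11, 11, 11, 9, 9]), 0),
   ((2, [12]), 0),
   ((2, [12, 9]), 0),
   ((2, [12, 9, 9]), 0),
   ((2, [12, 11, 11]), 0)]

def ob3 : List ((Nat × List Nat) × Nat) :=
  [((2, [11, 12, 11]), 0),
   ((2, [12, 9, 9, 9]), 0),
   ((2, [12, 11, 11, 9]), 0),
   ((2, [11, 12, 11, 9]), 0),
   ((2, [12, 9, 9, 9, 9]), 0),
   ((2, [12, 11, 11, 9, 9]), 0)]

def ob4 : List ((Nat × List Nat) × Nat) :=
  [((2, [11, 12, 11, 9, 9]), 0),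
   ((2, [12, 11, 11, 11, 11]), 0),
   ((2, [11, 12, 11, 11, 11]), 0),
   ((2, [12, 9, 9, 9, 9, 9]), 0),
   ((2, [12, 11, 11, 11, 11, 9]), 0),
   ((2, [11, 12, 11, 11, 11, 9]), 0)]

def ob5 : List ((Nat × List Nat) × Nat) :=
  [((2, [12, 11, 11, 11, 11, 9, 9]), 0),
   ((2, [11, 12, 11, 11, 11, 9, 9]), 0),
   ((4, [12]), 0),
   ((4, [12, 9]), 0),
   ((4, [12, 9, 9]), 0)]

def ob6 : List ((Nat × List Nat) × Nat) :=
  [((4, [12, 11, 11]), 0),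
   ((4, [11, 12, 11]), 0),
   ((4, [12, 9, 9, 9]), 0),
   ((4, [12, 11, 11, 9]), 0),
   ((4, [11, 12, 11, 9]), 0)]

def ob7 : List ((Nat × List Nat) × Nat) :=
  [((4, [12, 9, 9, 9, 9]), 0),
   ((4, [12, 11, 11, 9, 9]), 0),
   ((4, [11, 12, 11, 9, 9]), 0),
   ((4, [12, 11, 11, 11, 11]), 0)]

def ob8 : List ((Nat × List Nat) × Nat) :=
  [((4, [11, 12, 11, 11, 11]), 0),
   ((4, [12, 9, 9, 9, 9, 9]), 0),
   ((4, [12, 11, 11, 11, 11, 9]), 0),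
   ((4, [11, 12, 11, 11, 11, 9]), 0)]

def ob9 : List ((Nat × List Nat) × Nat) :=
  [((4, [12, 11, 11, 11, 11, 9, 9]), 0),
   ((4, [11, 12, 11, 11, 11, 9, 9]), 0),
   ((1, [9]), 1),
   ((1, [11]), 1)]

def ob10 : List ((Nat × List Nat) × Nat) :=
  [((1, [9, 9]), 1),
   ((1, [11, 9]), 1),
   ((1, [11, 11]), 1),
   ((1, [12, 11]), 1)]

def ob11 : List ((Nat × List Nat) × Nat) :=
  [((1, [11, 12]), 1),
   ((1, [9, 9, 9]), 1),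
   ((1, [11, 11, 9]), 1),
   ((1, [12, 11, 9]), 1)]

def ob12 : List ((Nat × List Nat) × Nat) :=
  [((1, [11, 12, 9]), 1),
   ((1, [12, 11, 12]), 1),
   ((1, [9, 9, 9, 9]), 1)]

def ob13 : List ((Nat × List Nat) × Nat) :=
  [((1, [11, 11, 9, 9]), 1),
   ((1, [11, 12, 9, 9]), 1),
   ((1, [11, 11, 11, 9]), 1)]

def ob14 : List ((Nat × List Nat) × Nat) :=
  [((1, [12, 11, 12, 9]), 1),
   ((1, [11, 11, 11, 11]), 1),
   ((1, [12, 11, 11, 11]), 1)]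

def ob15 : List ((Nat × List Nat) × Nat) :=
  [((1, [11, 12, 11, 11]), 1),
   ((1, [12, 11, 12, 11]), 1),
   ((1, [9, 9, 9, 9, 9]), 1)]

def ob16 : List ((Nat × List Nat) × Nat) :=
  [((1, [11, 11, 11, 9, 9]), 1),
   ((1, [12, 11, 12, 9, 9]), 1),
   ((1, [12, 11, 11, 11, 9]), 1)]

def ob17 : List ((Nat × List Nat) × Nat) :=
  [((1, [11, 12, 11, 11, 9]), 1),
   ((1, [12, 11, 12, 11, 9]), 1),
   ((1, [11, 11, 11, 11, 11]), 1)]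

def ob18 : List ((Nat × List Nat) × Nat) :=
  [((1, [12, 11, 12, 11, 11]), 1),
   ((1, [11, 11, 11, 11, 9, 9]), 1)]

def ob19 : List ((Nat × List Nat) × Nat) :=
  [((1, [12, 11, 11, 11, 9, 9]), 1),
   ((1, [12, 11, 12, 11, 9, 9]), 1)]

def ob20 : List ((Nat × List Nat) × Nat) :=
  [((1, [11, 11, 11, 11, 11, 9]), 1),
   ((1, [12, 11, 12, 11, 11, 9]), 1)]

def ob21 : List ((Nat × List Nat) × Nat) :=
  [((1, [12, 11, 11, 11, 11, 11]), 1),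
   ((1, [11, 12, 11, 11, 11, 11]), 1)]

def ob22 : List ((Nat × List Nat) × Nat) :=
  [((1, [12, 11, 12, 11, 11, 11]), 1),
   ((1, [11, 11, 11, 11, 11, 9, 9]), 1)]

def ob23 : List ((Nat × List Nat) × Nat) :=
  [((1, [12, 11, 12, 11, 11, 9, 9]), 1),
   ((1, [12, 11, 11, 11, 11, 11, 9]), 1)]

def ob24 : List ((Nat × List Nat) × Nat) :=
  [((1, [11, 12, 11, 11, 11, 11, 9]), 1),
   ((1, [12, 11, 12, 11, 11, 11, 9]), 1)]

def ob25 : List ((Nat × List Nat) × Nat) :=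
  [((1, [12, 11, 12, 11, 11, 11, 11]), 1),
   ((1, [12, 11, 11, 11, 11, 11, 9, 9]), 1)]

def ob26 : List ((Nat × List Nat) × Nat) :=
  [((1, [11, 12, 11, 11, 11, 11, 9, 9]), 1),
   ((1, [12, 11, 12, 11, 11, 11, 9, 9]), 1)]

def ob27 : List ((Nat × List Nat) × Nat) :=
  [((1, [12, 11, 12, 11, 11, 11, 11, 9]), 1),
   ((1, [12, 11, 12, 11, 11, 11, 11, 9, 9]), 1)]

def ob28 : List ((Nat × List Nat) × Nat) :=
  [((2, []), 1),
   ((2, [9]), 1),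
   ((2, [11]), 1)]

def ob29 : List ((Nat × List Nat) × Nat) :=
  [((2, [9, 9]), 1),
   ((2, [11, 9]), 1),
   ((2, [11, 11]), 1)]

def ob30 : List ((Nat × List Nat) × Nat) :=
  [((2, [12, 11]), 1),
   ((2, [11, 12]), 1),
   ((2, [9, 9, 9]), 1)]

def ob31 : List ((Nat × List Nat) × Nat) :=
  [((2, [11, 9, 9]), 1),
   ((2, [11, 11, 9]), 1),
   ((2, [12, 11, 9]), 1)]

def ob32 : List ((Nat × List Nat) × Nat) :=
  [((2, [11, 12, 9]), 1),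
   ((2, [11, 11, 11]), 1),
   ((2, [12, 11, 12]), 1)]

def ob33 : List ((Nat × List Nat) × Nat) :=
  [((2, [9, 9, 9, 9]), 1),
   ((2, [11, 11, 9, 9]), 1)]

def ob34 : List ((Nat × List Nat) × Nat) :=
  [((2, [12, 11, 9, 9]), 1),
   ((2, [11, 12, 9, 9]), 1)]

def ob35 : List ((Nat × List Nat) × Nat) :=
  [((2, [11, 11, 11, 9]), 1),
   ((2, [12, 11, 12, 9]), 1)]

def ob36 : List ((Nat × List Nat) × Nat) :=
  [((2, [11, 11, 11, 11]), 1),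
   ((2, [12, 11, 12, 11]), 1)]

def ob37 : List ((Nat × List Nat) × Nat) :=
  [((2, [9, 9, 9, 9, 9]), 1),
   ((2, [11, 11, 11, 9, 9]), 1)]

def ob38 : List ((Nat × List Nat) × Nat) :=
  [((2, [12, 11, 12, 9, 9]), 1),
   ((2, [11, 11, 11, 11, 9]), 1)]

def ob39 : List ((Nat × List Nat) × Nat) :=
  [((2, [12, 11, 11, 11, 9]), 1),
   ((2, [11, 12, 11, 11, 9]), 1)]

def ob40 : List ((Nat × List Nat) × Nat) :=
  [((2, [12, 11, 12, 11, 9]), 1),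
   ((2, [11, 11, 11, 11, 11]), 1)]

def ob41 : List ((Nat × List Nat) × Nat) :=
  [((2, [12, 11, 12, 11, 11]), 1),
   ((2, [12, 11, 11, 11, 9, 9]), 1)]

def ob42 : List ((Nat × List Nat) × Nat) :=
  [((2, [11, 12, 11, 11, 9, 9]), 1),
   ((2, [12, 11, 12, 11, 9, 9]), 1)]

def ob43 : List ((Nat × List Nat) × Nat) :=
  [((2, [11, 11, 11, 11, 11, 9]), 1),
   ((2, [12, 11, 12, 11, 11, 9]), 1)]

def ob44 : List ((Nat × List Nat) × Nat) :=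
  [((2, [12, 11, 11, 11, 11, 11]), 1),
   ((2, [11, 12, 11, 11, 11, 11]), 1)]

def ob45 : List ((Nat × List Nat) × Nat) :=
  [((2, [12, 11, 12, 11, 11, 11]), 1),
   ((2, [12, 11, 12, 11, 11, 9, 9]), 1)]

def ob46 : List ((Nat × List Nat) × Nat) :=
  [((2, [12, 11, 11, 11, 11, 11, 9]), 1),
   ((2, [11, 12, 11, 11, 11, 11, 9]), 1)]

def ob47 : List ((Nat × List Nat) × Nat) :=
  [((2, [12, 11, 12, 11, 11, 11, 9]), 1),
   ((2, [12, 11, 12, 11, 11, 11, 11]), 1)]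

def ob48 : List ((Nat × List Nat) × Nat) :=
  [((2, [12, 11, 11, 11, 11, 11, 9, 9]), 1)]

def ob49 : List ((Nat × List Nat) × Nat) :=
  [((2, [11, 12, 11, 11, 11, 11, 9, 9]), 1)]

def ob50 : List ((Nat × List Nat) × Nat) :=
  [((2, [12, 11, 12, 11, 11, 11, 11, 9]), 1)]

def ob51 : List ((Nat × List Nat) × Nat) :=
  [((2, [12, 11, 12, 11, 11, 11, 11, 9, 9]), 1),
   ((4, []), 1)]

def ob52 : List ((Nat × List Nat) × Nat) :=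
  [((4, [9]), 1),
   ((4, [11]), 1)]

def ob53 : List ((Nat × List Nat) × Nat) :=
  [((4, [9, 9]), 1),
   ((4, [11, 11]), 1)]

def ob54 : List ((Nat × List Nat) × Nat) :=
  [((4, [12, 11]), 1),
   ((4, [11, 12]), 1)]

def ob55 : List ((Nat × List Nat) × Nat) :=
  [((4, [9, 9, 9]), 1),
   ((4, [11, 11, 9]), 1)]

def ob56 : List ((Nat × List Nat) × Nat) :=
  [((4, [12, 11, 9]), 1),
   ((4, [11, 12, 9]), 1)]

def ob57 : List ((Nat × List Nat) × Nat) :=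
  [((4, [12, 11, 12]), 1),
   ((4, [9, 9, 9, 9]), 1)]

def ob58 : List ((Nat × List Nat) × Nat) :=
  [((4, [11, 11, 9, 9]), 1)]

def ob59 : List ((Nat × List Nat) × Nat) :=
  [((4, [12, 11, 9, 9]), 1)]

def ob60 : List ((Nat × List Nat) × Nat) :=
  [((4, [11, 12, 9, 9]), 1)]

def ob61 : List ((Nat × List Nat) × Nat) :=
  [((4, [11, 11, 11, 9]), 1)]

def ob62 : List ((Nat × List Nat) × Nat) :=
  [((4, [12, 11, 12, 9]), 1)]

def ob63 : List ((Nat × List Nat) × Nat) :=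
  [((4, [11, 11, 11, 11]), 1)]

def ob64 : List ((Nat × List Nat) × Nat) :=
  [((4, [12, 11, 11, 11]), 1)]

def ob65 : List ((Nat × List Nat) × Nat) :=
  [((4, [11, 12, 11, 11]), 1)]

def ob66 : List ((Nat × List Nat) × Nat) :=
  [((4, [12, 11, 12, 11]), 1)]

def ob67 : List ((Nat × List Nat) × Nat) :=
  [((4, [9, 9, 9, 9, 9]), 1)]

def ob68 : List ((Nat × List Nat) × Nat) :=
  [((4, [11, 11, 11, 9, 9]), 1)]

def ob69 : List ((Nat × List Nat) × Nat) :=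
  [((4, [12, 11, 12, 9, 9]), 1)]

def ob70 : List ((Nat × List Nat) × Nat) :=
  [((4, [11, 11, 11, 11, 9]), 1)]

def ob71 : List ((Nat × List Nat) × Nat) :=
  [((4, [12, 11, 11, 11, 9]), 1)]

def ob72 : List ((Nat × List Nat) × Nat) :=
  [((4, [11, 12, 11, 11, 9]), 1)]

def ob73 : List ((Nat × List Nat) × Nat) :=
  [((4, [12, 11, 12, 11, 9]), 1)]

def ob74 : List ((Nat × List Nat) × Nat) :=
  [((4, [11, 11, 11, 11, 11]), 1)]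

def ob75 : List ((Nat × List Nat) × Nat) :=
  [((4, [12, 11, 12, 11, 11]), 1)]

def ob76 : List ((Nat × List Nat) × Nat) :=
  [((4, [11, 11, 11, 11, 9, 9]), 1)]

def ob77 : List ((Nat × List Nat) × Nat) :=
  [((4, [12, 11, 11, 11, 9, 9]), 1)]

def ob78 : List ((Nat × List Nat) × Nat) :=
  [((4, [11, 12, 11, 11, 9, 9]), 1)]

def ob79 : List ((Nat × List Nat) × Nat) :=
  [((4, [12, 11, 12, 11, 9, 9]), 1)]

def ob80 : List ((Nat × List Nat) × Nat) :=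
  [((4, [11, 11, 11, 11, 11, 9]), 1)]

def ob81 : List ((Nat × List Nat) × Nat) :=
  [((4, [12, 11, 12, 11, 11, 9]), 1)]

def ob82 : List ((Nat × List Nat) × Nat) :=
  [((4, [12, 11, 11, 11, 11, 11]), 1)]

def ob83 : List ((Nat × List Nat) × Nat) :=
  [((4, [11, 12, 11, 11, 11, 11]), 1)]

def ob84 : List ((Nat × List Nat) × Nat) :=
  [((4, [12, 11, 12, 11, 11, 11]), 1)]

def ob85 : List ((Nat × List Nat) × Nat) :=
  [((4, [11, 11, 11, 11, 11, 9, 9]), 1)]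

def ob86 : List ((Nat × List Nat) × Nat) :=
  [((4, [12, 11, 11, 11, 11, 11, 9]), 1)]

def ob87 : List ((Nat × List Nat) × Nat) :=
  [((4, [11, 12, 11, 11, 11, 11, 9]), 1)]

def ob88 : List ((Nat × List Nat) × Nat) :=
  [((4, [12, 11, 12, 11, 11, 11, 9]), 1)]

def ob89 : List ((Nat × List Nat) × Nat) :=
  [((4, [12, 11, 12, 11, 11, 11, 11]), 1)]

def ob90 : List ((Nat × List Nat) × Nat) :=
  [((4, [12, 11, 11, 11, 11, 11, 9, 9]), 1)]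

def ob91 : List ((Nat × List Nat) × Nat) :=
  [((4, [11, 12, 11, 11, 11, 11, 9, 9]), 1)]

def ob92 : List ((Nat × List Nat) × Nat) :=
  [((4, [12, 11, 12, 11, 11, 11, 9, 9]), 1)]

def ob93 : List ((Nat × List Nat) × Nat) :=
  [((4, [12, 11, 12, 11, 11, 11, 11, 9]), 1)]

def ob94 : List ((Nat × List Nat) × Nat) :=
  [((4, [12, 11, 12, 11, 11, 11, 11, 9, 9]), 1)]

def ob95 : List ((Nat × List Nat) × Nat) :=
  [((1, [11, 9, 9]), 2),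
   ((1, [11, 11, 11]), 2)]

def ob96 : List ((Nat × List Nat) × Nat) :=
  [((1, [11, 11, 11, 11, 9]), 2),
   ((1, [11, 12, 11, 11, 9, 9]), 2)]

def ob97 : List ((Nat × List Nat) × Nat) :=
  [((2, [12, 11, 11, 11]), 2),
   ((2, [11, 12, 11, 11]), 2)]

def ob98 : List ((Nat × List Nat) × Nat) :=
  [((2, [11, 11, 11, 11, 9, 9]), 2)]

def ob99 : List ((Nat × List Nat) × Nat) :=
  [((2, [11, 11, 11, 11, 11, 9, 9]), 2)]

def ob100 : List ((Nat × List Nat) × Nat) :=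
  [((2, [12, 11, 12, 11, 11, 11, 9, 9]), 2)]

def ob101 : List ((Nat × List Nat) × Nat) :=
  [((4, [11, 9]), 2)]

def ob102 : List ((Nat × List Nat) × Nat) :=
  [((4, [11, 9, 9]), 2)]

def ob103 : List ((Nat × List Nat) × Nat) :=
  [((4, [11, 11, 11]), 2)]

def ob104 : List ((Nat × List Nat) × Nat) :=
  [((4, [12, 11, 12, 11, 11, 9, 9]), 2)]

def tw : List (List Nat) := [[13],
[14],
[15],
[16],
[17],
[18],
[19],
[20]]

def wx : List Nat :=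
  [3, 2, 4, 1, 0, 5]

def wy : List Nat :=
  [0, 3, 4, 3, 2, 4, 1, 0, 5, 2, 3, 2, 4, 1, 0, 5, 3, 2, 4, 1, 0, 5, 4, 3, 2, 4, 1, 0, 5, 2, 3, 2, 4, 1, 0, 5, 4, 5, 3, 4, 3]

def wz : List Nat :=
  [2, 7, 2, 4, 1, 0, 5, 3, 0, 3, 4, 3, 2, 4, 1, 0, 5, 2, 3, 2, 4, 1, 0, 5, 3, 2, 4, 1, 0, 5, 4, 3, 2, 4, 1, 0, 5, 2, 3, 2, 4, 1, 0, 5, 4, 5, 3, 4, 3, 2, 3, 1, 6, 0, 3, 4, 3, 2, 4, 1, 0, 5, 2, 3, 2, 4, 1, 0, 5, 3, 2, 4, 1, 0, 5, 4, 3, 2, 4, 1, 0, 5, 2, 3, 2, 4, 1, 0, 5, 4, 5, 3, 4, 3, 0, 3, 4, 3, 2, 4, 1, 0, 5, 2, 3, 2, 4, 1, 0, 5, 3, 2, 4, 1, 0, 5, 4, 3, 2, 4, 1, 0, 5, 2, 3, 2, 4, 1, 0, 5, 4, 5, 3, 4, 3, 0, 3, 4, 3, 2, 4, 1, 0, 5, 2, 3, 2, 4, 1, 0, 5, 3, 2, 4, 1, 0, 5, 4, 3, 2, 4, 1, 0, 5, 2, 3, 2, 4, 1, 0, 5, 4, 5, 3, 4, 3, 4, 0]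


end Cfsg.Agent.Comp.ON
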