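import Cfsg.Agent.Comp.ON.OutT

set_option autoImplicit false
set_option maxRecDepth 100000

namespace Cfsg.Agent.Comp.ON
open Cfsg.Agent.Comp

def E2 : List (List Nat × List Nat) :=
  [([8], [3, 2, 4, 1, 0, 5]),
   ([9], [0, 3, 4, 8, 2, 8, 8, 4, 8, 2, 8, 4, 5, 3, 4, 3]),
   ([10], [2, 7, 3, 8, 3, 9, 2, 3, 1, 6, 9, 9, 9, 4, 0]),
   ([11], [10, 3, 9, 1, 9, 9, 4, 5, 2, 3, 4, 2, 3, 2, 3, 4, 0]),
   ([12], [10, 0, 10, 6, 4, 8, 8, 4, 8, 4, 5, 4, 3, 0]),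
   ([13], [8, 10, 11, 9, 1, 10, 0, 1, 9, 0, 1, 5, 3, 2, 3, 4]),
   ([14], [1, 3, 5, 0, 1, 13, 0, 1, 5, 3, 0]),
   ([15], [1, 10, 8, 6, 10, 2, 9, 8, 1, 3, 0]),
   ([16], [1, 3, 14, 2, 6, 1, 10, 8, 2, 8, 9, 9, 1, 5, 3]),
   ([17], [0, 4, 8, 4, 7, 15, 6, 9, 8, 9, 2, 8, 5, 3]),
   ([18], [8, 17, 0, 1, 5, 4, 2, 3]),
   ([19], [5, 3, 11, 5, 18, 0, 14, 1, 2, 8, 5, 9, 3, 4, 2]),
   ([20], [19, 18, 13])]

def eqs2_0L : List (List Nat × List Nat) :=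
  [([8], [3, 2, 4, 1, 0, 5])]

def eqs2_1L : List (List Nat × List Nat) :=
  [([9], [0, 3, 4, 8, 2, 8, 8, 4, 8, 2, 8, 4, 5, 3, 4, 3])]

def eqs2_2L : List (List Nat × List Nat) :=
  [([10], [2, 7, 3, 8, 3, 9, 2, 3, 1, 6, 9, 9, 9, 4, 0])]

def eqs2_3L : List (List Nat × List Nat) :=
  [([11], [10, 3, 9, 1, 9, 9, 4, 5, 2, 3, 4, 2, 3, 2, 3, 4, 0])]

def eqs2_4L : List (List Nat × List Nat) :=
  [([12], [10, 0, 10, 6, 4, 8, 8, 4, 8, 4, 5, 4, 3, 0])]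

def eqs2_5L : List (List Nat × List Nat) :=
  [([13], [8, 10, 11, 9, 1, 10, 0, 1, 9, 0, 1, 5, 3, 2, 3, 4])]

def eqs2_6L : List (List Nat × List Nat) :=
  [([14], [1, 3, 5, 0, 1, 13, 0, 1, 5, 3, 0])]

def eqs2_7L : List (List Nat × List Nat) :=
  [([15], [1, 10, 8, 6, 10, 2, 9, 8, 1, 3, 0])]

def eqs2_8L : List (List Nat × List Nat) :=
  [([16], [1, 3, 14, 2, 6, 1, 10, 8, 2, 8, 9, 9, 1, 5, 3])]

def eqs2_9L : List (List Nat × List Nat) :=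
  [([17], [0, 4, 8, 4, 7, 15, 6, 9, 8, 9, 2, 8, 5, 3])]

def eqs2_10L : List (List Nat × List Nat) :=
  [([18], [8, 17, 0, 1, 5, 4, 2, 3])]

def eqs2_11L : List (List Nat × List Nat) :=
  [([19], [5, 3, 11, 5, 18, 0, 14, 1, 2, 8, 5, 9, 3, 4, 2])]

def eqs2_12L : List (List Nat × List Nat) :=
  [([20], [19, 18, 13])]

theorem eqs2_0_0 : EqsP 122760 0 17 T2 eqs2_0L :=
  eqsP_of ok2 (by norm_num) (by norm_num) (by norm_num) (show eqsP (nat_lit 122760) (nat_lit 17) (nat_lit 0) (nat_lit 17) T2 eqs2_0L = true by decide +kernel)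

theorem eqs2_1_0 : EqsP 122760 0 9 T2 eqs2_1L :=
  eqsP_of ok2 (by norm_num) (by norm_num) (by norm_num) (show eqsP (nat_lit 122760) (nat_lit 17) (nat_lit 0) (nat_lit 9) T2 eqs2_1L = true by decide +kernel)

theorem eqs2_1_9 : EqsP 122760 9 17 T2 eqs2_1L :=
  eqsP_of ok2 (by norm_num) (by norm_num) (by norm_num) (show eqsP (nat_lit 122760) (nat_lit 17) (nat_lit 9) (nat_lit 8) T2 eqs2_1L = true by decide +kernel)

theorem eqs2_2_0 : EqsP 122760 0 9 T2 eqs2_2L :=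
  eqsP_of ok2 (by norm_num) (by norm_num) (by norm_num) (show eqsP (nat_lit 122760) (nat_lit 17) (nat_lit 0) (nat_lit 9) T2 eqs2_2L = true by decide +kernel)

theorem eqs2_2_9 : EqsP 122760 9 17 T2 eqs2_2L :=
  eqsP_of ok2 (by norm_num) (by norm_num) (by norm_num) (show eqsP (nat_lit 122760) (nat_lit 17) (nat_lit 9) (nat_lit 8) T2 eqs2_2L = true by decide +kernel)

theorem eqs2_3_0 : EqsP 122760 0 9 T2 eqs2_3L :=
  eqsP_of ok2 (by norm_num) (by norm_num) (by norm_num) (show eqsP (nat_lit 122760) (nat_lit 17) (nat_lit 0) (nat_lit 9) T2 eqs2_3L = true by decide +kernel)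

theorem eqs2_3_9 : EqsP 122760 9 17 T2 eqs2_3L :=
  eqsP_of ok2 (by norm_num) (by norm_num) (by norm_num) (show eqsP (nat_lit 122760) (nat_lit 17) (nat_lit 9) (nat_lit 8) T2 eqs2_3L = true by decide +kernel)

theorem eqs2_4_0 : EqsP 122760 0 9 T2 eqs2_4L :=
  eqsP_of ok2 (by norm_num) (by norm_num) (by norm_num) (show eqsP (nat_lit 122760) (nat_lit 17) (nat_lit 0) (nat_lit 9) T2 eqs2_4L = true by decide +kernel)

theorem eqs2_4_9 : EqsP 122760 9 17 T2 eqs2_4L :=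
  eqsP_of ok2 (by norm_num) (by norm_num) (by norm_num) (show eqsP (nat_lit 122760) (nat_lit 17) (nat_lit 9) (nat_lit 8) T2 eqs2_4L = true by decide +kernel)

theorem eqs2_5_0 : EqsP 122760 0 9 T2 eqs2_5L :=
  eqsP_of ok2 (by norm_num) (by norm_num) (by norm_num) (show eqsP (nat_lit 122760) (nat_lit 17) (nat_lit 0) (nat_lit 9) T2 eqs2_5L = true by decide +kernel)

theorem eqs2_5_9 : EqsP 122760 9 17 T2 eqs2_5L :=
  eqsP_of ok2 (by norm_num) (by norm_num) (by norm_num) (show eqsP (nat_lit 122760) (nat_lit 17) (nat_lit 9) (nat_lit 8) T2 eqs2_5L = true by decide +kernel)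

theorem eqs2_6_0 : EqsP 122760 0 9 T2 eqs2_6L :=
  eqsP_of ok2 (by norm_num) (by norm_num) (by norm_num) (show eqsP (nat_lit 122760) (nat_lit 17) (nat_lit 0) (nat_lit 9) T2 eqs2_6L = true by decide +kernel)

theorem eqs2_6_9 : EqsP 122760 9 17 T2 eqs2_6L :=
  eqsP_of ok2 (by norm_num) (by norm_num) (by norm_num) (show eqsP (nat_lit 122760) (nat_lit 17) (nat_lit 9) (nat_lit 8) T2 eqs2_6L = true by decide +kernel)

theorem eqs2_7_0 : EqsP 122760 0 9 T2 eqs2_7L :=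
  eqsP_of ok2 (by norm_num) (by norm_num) (by norm_num) (show eqsP (nat_lit 122760) (nat_lit 17) (nat_lit 0) (nat_lit 9) T2 eqs2_7L = true by decide +kernel)

theorem eqs2_7_9 : EqsP 122760 9 17 T2 eqs2_7L :=
  eqsP_of ok2 (by norm_num) (by norm_num) (by norm_num) (show eqsP (nat_lit 122760) (nat_lit 17) (nat_lit 9) (nat_lit 8) T2 eqs2_7L = true by decide +kernel)

theorem eqs2_8_0 : EqsP 122760 0 9 T2 eqs2_8L :=
  eqsP_of ok2 (by norm_num) (by norm_num) (by norm_num) (show eqsP (nat_lit 122760) (nat_lit 17) (nat_lit 0) (nat_lit 9) T2 eqs2_8L = true by decide +kernel)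

theorem eqs2_8_9 : EqsP 122760 9 17 T2 eqs2_8L :=
  eqsP_of ok2 (by norm_num) (by norm_num) (by norm_num) (show eqsP (nat_lit 122760) (nat_lit 17) (nat_lit 9) (nat_lit 8) T2 eqs2_8L = true by decide +kernel)

theorem eqs2_9_0 : EqsP 122760 0 9 T2 eqs2_9L :=
  eqsP_of ok2 (by norm_num) (by norm_num) (by norm_num) (show eqsP (nat_lit 122760) (nat_lit 17) (nat_lit 0) (nat_lit 9) T2 eqs2_9L = true by decide +kernel)

theorem eqs2_9_9 : EqsP 122760 9 17 T2 eqs2_9L :=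
  eqsP_of ok2 (by norm_num) (by norm_num) (by norm_num) (show eqsP (nat_lit 122760) (nat_lit 17) (nat_lit 9) (nat_lit 8) T2 eqs2_9L = true by decide +kernel)

theorem eqs2_10_0 : EqsP 122760 0 17 T2 eqs2_10L :=
  eqsP_of ok2 (by norm_num) (by norm_num) (by norm_num) (show eqsP (nat_lit 122760) (nat_lit 17) (nat_lit 0) (nat_lit 17) T2 eqs2_10L = true by decide +kernel)

theorem eqs2_11_0 : EqsP 122760 0 9 T2 eqs2_11L :=
  eqsP_of ok2 (by norm_num) (by norm_num) (by norm_num) (show eqsP (nat_lit 122760) (nat_lit 17) (nat_lit 0) (nat_lit 9) T2 eqs2_11L = true by decide +kernel)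

theorem eqs2_11_9 : EqsP 122760 9 17 T2 eqs2_11L :=
  eqsP_of ok2 (by norm_num) (by norm_num) (by norm_num) (show eqsP (nat_lit 122760) (nat_lit 17) (nat_lit 9) (nat_lit 8) T2 eqs2_11L = true by decide +kernel)

theorem eqs2_12_0 : EqsP 122760 0 17 T2 eqs2_12L :=
  eqsP_of ok2 (by norm_num) (by norm_num) (by norm_num) (show eqsP (nat_lit 122760) (nat_lit 17) (nat_lit 0) (nat_lit 17) T2 eqs2_12L = true by decide +kernel)

theorem eqs2_0 : ∀ e ∈ eqs2_0L, ev (sig T2) e.1 = ev (sig T2) e.2 := EqsP.eqs eqs2_0_0 ok2 (by norm_num)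

theorem eqs2_1 : ∀ e ∈ eqs2_1L, ev (sig T2) e.1 = ev (sig T2) e.2 := EqsP.eqs (EqsP.join eqs2_1_0 eqs2_1_9) ok2 (by norm_num)

theorem eqs2_2 : ∀ e ∈ eqs2_2L, ev (sig T2) e.1 = ev (sig T2) e.2 := EqsP.eqs (EqsP.join eqs2_2_0 eqs2_2_9) ok2 (by norm_num)

theorem eqs2_3 : ∀ e ∈ eqs2_3L, ev (sig T2) e.1 = ev (sig T2) e.2 := EqsP.eqs (EqsP.join eqs2_3_0 eqs2_3_9) ok2 (by norm_num)

theorem eqs2_4 : ∀ e ∈ eqs2_4L, ev (sig T2) e.1 = ev (sig T2) e.2 := EqsP.eqs (EqsP.join eqs2_4_0 eqs2_4_9) ok2 (by norm_num)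

theorem eqs2_5 : ∀ e ∈ eqs2_5L, ev (sig T2) e.1 = ev (sig T2) e.2 := EqsP.eqs (EqsP.join eqs2_5_0 eqs2_5_9) ok2 (by norm_num)

theorem eqs2_6 : ∀ e ∈ eqs2_6L, ev (sig T2) e.1 = ev (sig T2) e.2 := EqsP.eqs (EqsP.join eqs2_6_0 eqs2_6_9) ok2 (by norm_num)

theorem eqs2_7 : ∀ e ∈ eqs2_7L, ev (sig T2) e.1 = ev (sig T2) e.2 := EqsP.eqs (EqsP.join eqs2_7_0 eqs2_7_9) ok2 (by norm_num)

theorem eqs2_8 : ∀ e ∈ eqs2_8L, ev (sig T2) e.1 = ev (sig T2) e.2 := EqsP.eqs (EqsP.join eqs2_8_0 eqs2_8_9) ok2 (by norm_num)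

theorem eqs2_9 : ∀ e ∈ eqs2_9L, ev (sig T2) e.1 = ev (sig T2) e.2 := EqsP.eqs (EqsP.join eqs2_9_0 eqs2_9_9) ok2 (by norm_num)

theorem eqs2_10 : ∀ e ∈ eqs2_10L, ev (sig T2) e.1 = ev (sig T2) e.2 := EqsP.eqs eqs2_10_0 ok2 (by norm_num)

theorem eqs2_11 : ∀ e ∈ eqs2_11L, ev (sig T2) e.1 = ev (sig T2) e.2 := EqsP.eqs (EqsP.join eqs2_11_0 eqs2_11_9) ok2 (by norm_num)

theorem eqs2_12 : ∀ e ∈ eqs2_12L, ev (sig T2) e.1 = ev (sig T2) e.2 := EqsP.eqs eqs2_12_0 ok2 (by norm_num)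

theorem eqs2 : ∀ e ∈ E2, ev (sig T2) e.1 = ev (sig T2) e.2 :=
  (show (eqs2_0L ++ (eqs2_1L ++ (eqs2_2L ++ (eqs2_3L ++ (eqs2_4L ++ (eqs2_5L ++ (eqs2_6L ++ (eqs2_7L ++ (eqs2_8L ++ (eqs2_9L ++ (eqs2_10L ++ (eqs2_11L ++ eqs2_12L)))))))))))) = E2 by decide +kernel) ▸ (eqs_append eqs2_0 (eqs_append eqs2_1 (eqs_append eqs2_2 (eqs_append eqs2_3 (eqs_append eqs2_4 (eqs_append eqs2_5 (eqs_append eqs2_6 (eqs_append eqs2_7 (eqs_append eqs2_8 (eqs_append eqs2_9 (eqs_append eqs2_10 (eqs_append eqs2_11 eqs2_12))))))))))))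

noncomputable def s2 : ℕ → Cfsg.Spor.ON := liftS phi (sig T2)

theorem inj : Function.Injective phi := card.2.2

theorem ext1 : Rep (liftS phi (sig T)) 8 122760 T phi ∧ ∀ x < 8, liftS phi (sig T) x = s x :=
  rep.extend inj ok (fun _ _ => rfl) eqs (by decide +kernel) rfl

theorem rep1 : Rep (liftS phi (sig T)) 8 122760 T phi := ext1.1

theorem ext2 : Rep s2 21 122760 T2 phi ∧ ∀ x < 8, s2 x = s x := by
  have h1 := ext1
  have h2 := h1.1.extend inj ok2 (by intro x hx; interval_cases x <;> rfl) eqs2 (by decide +kernel) (L' := 21) rfl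
  exact ⟨h2.1, fun x hx => (h2.2 x (by omega)).trans (h1.2 x hx)⟩

theorem rep2 : Rep s2 21 122760 T2 phi := ext2.1

noncomputable def Is : List Nat := [ivl 0 1, ivl 1 5586, ivl 5587 6384, ivl 11971 52136, ivl 64107 58653]

theorem orbs : Orbs phi 122760 Is :=
  rep.orbs (by decide +kernel) stab.2 ((lall_eq _ _).mp (show lall (invS T W0) Is = true by decide +kernel))


end Cfsg.Agent.Comp.ON
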