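import Cfsg.Agent.Comp.ON.Base
import Cfsg.Agent.Comp.OutKit
import Cfsg.Agent.Comp.ON.OutN0
import Cfsg.Agent.Comp.ON.OutN1
import Cfsg.Agent.Comp.ON.OutN2
import Cfsg.Agent.Comp.ON.OutN3
import Cfsg.Agent.Comp.ON.OutN4

set_option autoImplicit false
set_option maxRecDepth 100000

namespace Cfsg.Agent.Comp.ON
open Cfsg.Agent.Comp

noncomputable def T2 : List Net := [n0, n1, n2, n3, n4, n5, n6, n7, on8, on9, on10, on11, on12, on13, on14, on15, on16, on17, on18, on19, on20]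

theorem ok2 : TOK 122760 T2 :=
  (TOK.cons n0_ok (TOK.cons n1_ok (TOK.cons n2_ok (TOK.cons n3_ok (TOK.cons n4_ok (TOK.cons n5_ok (TOK.cons n6_ok (TOK.cons n7_ok (TOK.cons on8_ok (TOK.cons on9_ok (TOK.cons on10_ok (TOK.cons on11_ok (TOK.cons on12_ok (TOK.cons on13_ok (TOK.cons on14_ok (TOK.cons on15_ok (TOK.cons on16_ok (TOK.cons on17_ok (TOK.cons on18_ok (TOK.cons on19_ok (TOK.cons on20_ok (TOK.nil _))))))))))))))))))))))


end Cfsg.Agent.Comp.ON
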