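import Cfsg.Agent.Comp.ON.SubD

set_option autoImplicit false
set_option maxRecDepth 100000

namespace Cfsg.Agent.Comp.ON
open Cfsg.Agent.Comp

def eJ_0L : List (List Nat × List Nat) :=
  [([0, 21, 0, 22, 0, 21, 0, 22, 0, 21, 0, 21, 0, 22, 0, 21, 0, 22, 0, 22, 0, 21, 0, 21, 0, 22, 0, 21, 0, 22, 0, 22, 0, 21, 0, 22, 0, 21, 0, 22, 0, 0, 21, 0, 22, 0, 21, 0, 22, 0, 21, 0, 21, 0, 22, 0, 21, 0, 22, 0, 22, 0, 21, 0, 21, 0, 22, 0, 21, 0, 22, 0, 22, 0, 21, 0, 22, 0, 21, 0, 22, 0], []),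
   ([0, 21, 0, 22, 0, 22, 0, 21, 0, 21, 0, 22, 0, 22, 0, 21, 0, 21, 0, 22, 0, 0, 21, 0, 22, 0, 22, 0, 21, 0, 21, 0, 22, 0, 22, 0, 21, 0, 21, 0, 22, 0], []),
   ([22, 0, 21, 22, 0, 21], [])]

theorem eJ_0 : ∀ e ∈ eJ_0L, ev s3 e.1 = ev s3 e.2 :=
  rep3.eqB inj base (by decide +kernel)

def eJ_1L : List (List Nat × List Nat) :=
  [([21, 0, 21, 0, 22, 0, 22, 0, 21, 0, 22, 0, 21, 0, 22, 0, 21, 0, 21, 0, 22, 0, 22, 21, 0, 21, 0, 22, 0, 22, 0, 21, 0, 22, 0, 21, 0, 22, 0, 21, 0, 21, 0, 22, 0, 22], []),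
   ([21, 0, 21, 0, 22, 0, 21, 0, 22, 0, 21, 0, 22, 0, 21, 0, 21, 0, 22, 0, 22, 0, 21, 0, 21, 0, 22, 0, 22, 0, 21, 0, 22, 0, 21, 0, 22, 0, 21, 0, 22, 0, 22, 21, 0, 21, 0, 22, 0, 21, 0, 22, 0, 21, 0, 22, 0, 21, 0, 21, 0, 22, 0, 22, 0, 21, 0, 21, 0, 22, 0, 22, 0, 21, 0, 22, 0, 21, 0, 22, 0, 21, 0, 22, 0, 22], [])]

theorem eJ_1 : ∀ e ∈ eJ_1L, ev s3 e.1 = ev s3 e.2 :=
  rep3.eqB inj base (by decide +kernel)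

def eJ_2L : List (List Nat × List Nat) :=
  [([0, 21, 0, 22, 0, 21, 0, 22, 0, 21, 0, 21, 0, 22, 0, 21, 0, 22, 0, 22, 0, 21, 0, 21, 0, 22, 0, 21, 0, 22, 0, 22, 0, 21, 0, 22, 0, 21, 0, 22, 0, 0, 21, 0, 22, 0, 22, 0, 21, 0, 21, 0, 22, 0, 22, 0, 21, 0, 21, 0, 22, 0, 0, 21, 0, 22, 0, 21, 0, 22, 0, 21, 0, 21, 0, 22, 0, 21, 0, 22, 0, 22, 0, 21, 0, 21, 0, 22, 0, 21, 0, 22, 0, 22, 0, 21, 0, 22, 0, 21, 0, 22, 0, 0, 21, 0, 22, 0, 22, 0, 21, 0, 21, 0, 22, 0, 22, 0, 21, 0, 21, 0, 22, 0, 0, 21, 0, 22, 0, 21, 0, 22, 0, 21, 0, 21, 0, 22, 0, 21, 0, 22, 0, 22, 0, 21, 0, 21, 0, 22, 0, 21, 0, 22, 0, 22, 0, 21, 0, 22, 0, 21, 0, 22, 0, 0, 21, 0, 22, 0, 22, 0, 21, 0, 21, 0, 22, 0, 22, 0, 21, 0, 21, 0, 22, 0], [])]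

theorem eJ_2 : ∀ e ∈ eJ_2L, ev s3 e.1 = ev s3 e.2 :=
  rep3.eqB inj base (by decide +kernel)

def eJ_3L : List (List Nat × List Nat) :=
  [([0, 21, 0, 22, 0, 21, 0, 22, 0, 21, 0, 21, 0, 22, 0, 21, 0, 22, 0, 22, 0, 21, 0, 21, 0, 22, 0, 21, 0, 22, 0, 22, 0, 21, 0, 22, 0, 21, 0, 22, 0, 22, 0, 21, 0, 21, 0, 22, 0, 21, 0, 22, 0, 21, 0, 21, 0, 22, 0, 21, 0, 22, 0, 22, 0, 21, 0, 21, 0, 22, 0, 21, 0, 22, 0, 22, 0, 21, 0, 22, 0, 21, 0, 22, 0, 22, 0, 21], [])]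

theorem eJ_3 : ∀ e ∈ eJ_3L, ev s3 e.1 = ev s3 e.2 :=
  rep3.eqB inj base (by decide +kernel)

def eJ_4L : List (List Nat × List Nat) :=
  [([0, 21, 0, 22, 0, 22, 0, 21, 0, 21, 0, 22, 0, 22, 0, 21, 0, 21, 0, 22, 0, 22, 0, 21, 0, 21, 0, 22, 0, 22, 0, 21, 0, 21, 0, 22, 0, 22, 0, 21, 0, 21, 0, 22, 0, 22, 0, 21, 0, 21, 0, 22, 0, 22, 0, 21, 0, 21, 0, 22, 0, 22, 0, 21, 0, 21, 0, 22, 0, 22, 0, 21, 0, 21, 0, 22, 0, 22, 0, 21, 0, 21, 0, 22, 0, 22, 0, 21, 0, 21, 0, 22, 0, 22, 0, 21, 0, 21, 0, 22, 0, 22, 0, 21, 0, 21, 0, 22, 0, 22, 0, 21, 0, 21, 0, 22, 0, 22, 0, 21], [])]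

theorem eJ_4 : ∀ e ∈ eJ_4L, ev s3 e.1 = ev s3 e.2 :=
  rep3.eqB inj base (by decide +kernel)

def eJ_5L : List (List Nat × List Nat) :=
  [([0, 21, 0, 22, 0, 21, 0, 22, 0, 21, 0, 21, 0, 22, 0, 21, 0, 22, 0, 22, 0, 21, 0, 21, 0, 22, 0, 21, 0, 22, 0, 22, 0, 21, 0, 22, 0, 21, 0, 22, 0, 0, 21, 0, 22, 0, 22, 0, 21, 0, 21, 0, 22, 0, 22, 0, 21, 0, 21, 0, 22, 0, 0, 21, 0, 22, 0, 21, 0, 22, 0, 21, 0, 21, 0, 22, 0, 21, 0, 22, 0, 22, 0, 21, 0, 21, 0, 22, 0, 21, 0, 22, 0, 22, 0, 21, 0, 22, 0, 21, 0, 22, 0, 22, 0, 21, 0, 21, 0, 22, 0, 22, 0, 21, 0, 21, 0, 22, 0, 22, 0, 21, 0, 21, 0, 22, 0, 0, 21, 0, 22, 0, 21, 0, 22, 0, 21, 0, 21, 0, 22, 0, 21, 0, 22, 0, 22, 0, 21, 0, 21, 0, 22, 0, 21, 0, 22, 0, 22, 0, 21, 0, 22, 0, 21, 0, 22, 0, 22, 0, 21, 0, 21,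 0, 22, 0, 22, 0, 21, 0, 21, 0, 22, 0, 22, 0, 21, 0, 21, 0, 22, 0, 0, 21, 0, 22, 0, 21, 0, 22, 0, 21, 0, 21, 0, 22, 0, 21, 0, 22, 0, 22, 0, 21, 0, 21, 0, 22, 0, 21, 0, 22, 0, 22, 0, 21, 0, 22, 0, 21, 0, 22, 0, 22, 0, 21, 0, 21, 0, 22, 0, 22, 0, 21, 0, 21, 0, 22, 0, 22, 0, 21, 0, 21, 0, 22, 0, 22, 0, 21, 0, 21, 0, 22, 0, 21, 0, 22, 0, 21, 0, 21, 0, 22, 0, 21, 0, 22, 0, 22, 0, 21, 0, 21, 0, 22, 0, 21, 0, 22, 0, 22, 0, 21, 0, 22, 0, 21, 0, 22, 0, 0, 21, 0, 22, 0, 22, 0, 21, 0, 21, 0, 22, 0, 22, 0, 21, 0, 21, 0, 22, 0, 22, 0, 21], [])]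

theorem eJ_5 : ∀ e ∈ eJ_5L, ev s3 e.1 = ev s3 e.2 :=
  rep3.eqB inj base (by decide +kernel)

def eJ_6L : List (List Nat × List Nat) :=
  [([0, 21, 0, 22, 0, 21, 0, 22, 0, 21, 0, 21, 0, 22, 0, 21, 0, 22, 0, 22, 0, 21, 0, 21, 0, 22, 0, 21, 0, 22, 0, 22, 0, 21, 0, 22, 0, 21, 0, 22, 0, 21, 0, 21, 0, 22, 0, 22, 0, 21, 0, 22, 0, 21, 0, 22, 0, 21, 0, 21, 0, 22, 0, 22, 0, 21, 0, 22, 0, 21, 0, 22, 0, 21, 0, 21, 0, 22, 0, 21, 0, 22, 0, 22, 0, 21, 0, 21, 0, 22, 0, 21, 0, 22, 0, 22, 0, 21, 0, 22, 0, 21, 0, 22, 0, 21, 0, 21, 0, 22, 0, 22, 0, 21, 0, 22, 0, 21, 0, 22, 0, 21, 0, 21, 0, 22, 0, 22], [])]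

theorem eJ_6 : ∀ e ∈ eJ_6L, ev s3 e.1 = ev s3 e.2 :=
  rep3.eqB inj base (by decide +kernel)

def eJ_7L : List (List Nat × List Nat) :=
  [([0, 21, 0, 22, 0, 22, 0, 21, 0, 21, 0, 22, 0, 22, 0, 21, 0, 21, 0, 22, 0, 21, 0, 21, 0, 22, 0, 22, 0, 21, 0, 22, 0, 21, 0, 22, 0, 21, 0, 21, 0, 22, 0, 22, 0, 21, 0, 22, 0, 22, 0, 21, 0, 21, 0, 22, 0, 22, 0, 21, 0, 21, 0, 22, 0, 21, 0, 21, 0, 22, 0, 22, 0, 21, 0, 22, 0, 21, 0, 22, 0, 21, 0, 21, 0, 22, 0, 22], [])]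

theorem eJ_7 : ∀ e ∈ eJ_7L, ev s3 e.1 = ev s3 e.2 :=
  rep3.eqB inj base (by decide +kernel)

def eJ_8L : List (List Nat × List Nat) :=
  [([22, 0, 21, 21, 0, 21, 0, 22, 0, 22, 0, 21, 0, 22, 0, 21, 0, 22, 0, 21, 0, 21, 0, 22, 0, 22, 22, 0, 21, 21, 0, 21, 0, 22, 0, 22, 0, 21, 0, 22, 0, 21, 0, 22, 0, 21, 0, 21, 0, 22, 0, 22, 22, 0, 21, 21, 0, 21, 0, 22, 0, 22, 0, 21, 0, 22, 0, 21, 0, 22, 0, 21, 0, 21, 0, 22, 0, 22], [])]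

theorem eJ_8 : ∀ e ∈ eJ_8L, ev s3 e.1 = ev s3 e.2 :=
  rep3.eqB inj base (by decide +kernel)

def eJ_9L : List (List Nat × List Nat) :=
  [([0, 21, 0, 22, 0, 22, 0, 21, 0, 21, 0, 22, 0, 22, 0, 21, 0, 21, 0, 22, 0, 22, 0, 21, 0, 21, 0, 22, 0, 22, 0, 21, 0, 21, 0, 22, 0, 22, 0, 21, 0, 21, 0, 22, 0, 22, 0, 21, 0, 21, 0, 22, 0, 22, 0, 21, 0, 21, 0, 22, 0, 22, 0, 21, 0, 21, 0, 22, 0, 21, 0, 21, 0, 22, 0, 22, 0, 21, 0, 22, 0, 21, 0, 22, 0, 21, 0, 21, 0, 22, 0, 22, 22, 0, 21, 0, 21, 0, 22, 0, 22, 0, 21, 0, 21, 0, 22, 0, 22, 0, 21, 0, 21, 0, 22, 0, 22, 0, 21, 0, 21, 0, 22, 0, 22, 0, 21, 0, 21, 0, 22, 0, 22, 0, 21, 0, 21, 0, 22, 0, 21, 0, 21, 0, 22, 0, 22, 0, 21, 0, 22, 0, 21, 0, 22, 0, 21, 0, 21, 0, 22, 0, 22, 22, 0, 21, 0, 21, 0, 22, 0, 22,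 0, 21, 0, 21, 0, 22, 0, 22, 0, 21, 0, 21, 0, 22, 0, 22, 0, 21, 21, 0, 21, 0, 22, 0, 22, 0, 21, 0, 22, 0, 21, 0, 22, 0, 21, 0, 21, 0, 22, 0, 22], [])]

theorem eJ_9 : ∀ e ∈ eJ_9L, ev s3 e.1 = ev s3 e.2 :=
  rep3.eqB inj base (by decide +kernel)

def eJ_10L : List (List Nat × List Nat) :=
  [([0, 21, 0, 22, 0, 21, 0, 22, 0, 21, 0, 21, 0, 22, 0, 21, 0, 22, 0, 22, 0, 21, 0, 21, 0, 22, 0, 21, 0, 22, 0, 22, 0, 21, 0, 22, 0, 21, 0, 22, 0, 21, 0, 21, 0, 22, 0, 21, 0, 22, 0, 21, 0, 22, 0, 21, 0, 21, 0, 22, 0, 22, 0, 21, 0, 21, 0, 22, 0, 22, 0, 21, 0, 22, 0, 21, 0, 22, 0, 21, 0, 22, 0, 22, 0, 21, 0, 22, 0, 21, 0, 22, 0, 21, 0, 21, 0, 22, 0, 21, 0, 22, 0, 22, 0, 21, 0, 21, 0, 22, 0, 21, 0, 22, 0, 22, 0, 21, 0, 22, 0, 21, 0, 22, 0, 21, 0, 21, 0, 22,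 0, 21, 0, 22, 0, 21, 0, 22, 0, 21, 0, 21, 0, 22, 0, 22, 0, 21, 0, 21, 0, 22, 0, 22, 0, 21, 0, 22, 0, 21, 0, 22, 0, 21, 0, 22, 0, 22], [])]

theorem eJ_10 : ∀ e ∈ eJ_10L, ev s3 e.1 = ev s3 e.2 :=
  rep3.eqB inj base (by decide +kernel)

def eJ_11L : List (List Nat × List Nat) :=
  [([0, 21, 0, 22, 0, 22, 0, 21, 0, 21, 0, 22, 0, 22, 0, 21, 0, 21, 0, 22, 0, 21, 0, 21, 0, 22, 0, 21, 0, 22, 0, 21, 0, 22, 0, 21, 0, 21, 0, 22, 0, 22, 0, 21, 0, 21, 0, 22, 0, 22, 0, 21, 0, 22, 0, 21, 0, 22, 0, 21, 0, 22, 0, 22, 0, 21, 0, 22, 0, 22, 0, 21, 0, 21, 0, 22, 0, 22, 0, 21, 0, 21, 0, 22, 0, 21, 0, 21, 0, 22, 0, 21, 0, 22, 0, 21, 0, 22, 0, 21, 0, 21, 0, 22, 0, 22, 0, 21, 0, 21, 0, 22, 0, 22, 0, 21, 0, 22, 0, 21, 0, 22, 0, 21, 0, 22, 0, 22], [])]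

theorem eJ_11 : ∀ e ∈ eJ_11L, ev s3 e.1 = ev s3 e.2 :=
  rep3.eqB inj base (by decide +kernel)

def eJ_12L : List (List Nat × List Nat) :=
  [([22, 0, 21, 21, 0, 21, 0, 22, 0, 21, 0, 22, 0, 21, 0, 22, 0, 21, 0, 21, 0, 22, 0, 22, 0, 21, 0, 21, 0, 22, 0, 22, 0, 21, 0, 22, 0, 21, 0, 22, 0, 21, 0, 22, 0, 22, 22, 0, 21, 21, 0, 21, 0, 22, 0, 21, 0, 22, 0, 21, 0, 22, 0, 21, 0, 21, 0, 22, 0, 22, 0, 21, 0, 21, 0, 22, 0, 22, 0, 21, 0, 22, 0, 21, 0, 22, 0, 21, 0, 22, 0, 22], [])]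

theorem eJ_12 : ∀ e ∈ eJ_12L, ev s3 e.1 = ev s3 e.2 :=
  rep3.eqB inj base (by decide +kernel)


end Cfsg.Agent.Comp.ON
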