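import Cfsg.Agent.Comp.ON.SubD

set_option autoImplicit false
set_option maxRecDepth 100000

namespace Cfsg.Agent.Comp.ON
open Cfsg.Agent.Comp

def eJ_13L : List (List Nat × List Nat) :=
  [([21, 0, 21, 0, 22, 0, 22, 0, 21, 0, 22, 0, 21, 0, 22, 0, 21, 0, 21, 0, 22, 0, 22, 21, 0, 21, 0, 22, 0, 21, 0, 22, 0, 21, 0, 22, 0, 21, 0, 21, 0, 22, 0, 22, 0, 21, 0, 21, 0, 22, 0, 22, 0, 21, 0, 22, 0, 21, 0, 22, 0, 21, 0, 22, 0, 22, 21, 0, 21, 0, 22, 0, 22, 0, 21, 0, 22, 0, 21, 0, 22, 0, 21, 0, 21, 0, 22, 0, 22, 21, 0, 21, 0, 22, 0, 21, 0, 22, 0, 21, 0, 22, 0, 21, 0, 21, 0, 22, 0, 22, 0, 21, 0, 21, 0, 22, 0, 22, 0, 21, 0, 22, 0, 21, 0, 22, 0, 21, 0, 22, 0, 22, 21, 0, 21, 0, 22, 0, 22, 0, 21, 0, 22, 0, 21, 0, 22, 0, 21, 0, 21,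 0, 22, 0, 22, 21, 0, 21, 0, 22, 0, 21, 0, 22, 0, 21, 0, 22, 0, 21, 0, 21, 0, 22, 0, 22, 0, 21, 0, 21, 0, 22, 0, 22, 0, 21, 0, 22, 0, 21, 0, 22, 0, 21, 0, 22, 0, 22, 21, 0, 21, 0, 22, 0, 22, 0, 21, 0, 22, 0, 21, 0, 22, 0, 21, 0, 21, 0, 22, 0, 22, 21, 0, 21, 0, 22, 0, 21, 0, 22, 0, 21, 0, 22, 0, 21, 0, 21, 0, 22, 0, 22, 0, 21, 0, 21, 0, 22, 0, 22, 0, 21, 0, 22, 0, 21, 0, 22, 0, 21, 0, 22, 0, 22, 21, 0, 21, 0, 22, 0, 22, 0, 21, 0, 22, 0, 21, 0, 22, 0, 21, 0, 21, 0, 22, 0, 22, 21, 0, 21, 0, 22, 0, 21, 0, 22, 0, 21, 0, 22, 0, 21, 0, 21, 0, 22, 0, 22, 0, 21, 0, 21, 0, 22, 0, 22, 0, 21, 0, 22, 0, 21, 0, 22, 0, 21, 0, 22, 0, 22], [])]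

theorem eJ_13 : ∀ e ∈ eJ_13L, ev s3 e.1 = ev s3 e.2 :=
  rep3.eqB inj base (by decide +kernel)

def eJ_14L : List (List Nat × List Nat) :=
  [([0, 21, 0, 22, 0, 21, 0, 22, 0, 21, 0, 21, 0, 22, 0, 21, 0, 22, 0, 22, 0, 21, 0, 21, 0, 22, 0, 21, 0, 22, 0, 22, 0, 21, 0, 22, 0, 21, 0, 22, 0, 22, 0, 21, 21, 0, 21, 0, 22, 0, 22, 0, 21, 0, 22, 0, 21, 0, 22, 0, 21, 0, 21, 0, 22, 0, 22, 22, 0, 21, 21, 0, 21, 0, 22, 0, 21, 0, 22, 0, 21, 0, 22, 0, 21, 0, 21, 0, 22, 0, 22, 0, 21, 0, 21, 0, 22, 0, 22, 0, 21, 0, 22, 0, 21, 0, 22, 0, 21, 0, 22, 0, 22, 21, 0, 21, 0, 22, 0, 22, 0, 21, 0, 22, 0, 21, 0, 22, 0, 21, 0, 21, 0, 22, 0, 22, 22, 0, 21, 21, 0, 21, 0, 22, 0, 21, 0, 22, 0, 21, 0, 22, 0, 21, 0, 21, 0, 22, 0, 22, 0, 21, 0, 21,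 0, 22, 0, 22, 0, 21, 0, 22, 0, 21, 0, 22, 0, 21, 0, 22, 0, 22, 21, 0, 21, 0, 22, 0, 22, 0, 21, 0, 22, 0, 21, 0, 22, 0, 21, 0, 21, 0, 22, 0, 22, 22, 0, 21, 21, 0, 21, 0, 22, 0, 21, 0, 22, 0, 21, 0, 22, 0, 21, 0, 21, 0, 22, 0, 22, 0, 21, 0, 21, 0, 22, 0, 22, 0, 21, 0, 22, 0, 21, 0, 22, 0, 21, 0, 22, 0, 22, 21, 0, 21, 0, 22, 0, 22, 0, 21, 0, 22, 0, 21, 0, 22, 0, 21, 0, 21, 0, 22, 0, 22, 21, 0, 21, 0, 22, 0, 21, 0, 22, 0, 21, 0, 22, 0, 21, 0, 21, 0, 22, 0, 22, 0, 21, 0, 21, 0, 22, 0, 22, 0, 21, 0, 22, 0, 21, 0, 22, 0, 21, 0, 22, 0, 22, 22, 0, 21, 21, 0, 21, 0, 22, 0, 22, 0, 21, 0, 22, 0, 21, 0, 22, 0, 21, 0, 21, 0, 22, 0, 22, 21, 0, 21, 0, 22, 0, 21, 0, 22, 0, 21, 0, 22, 0, 21, 0, 21, 0, 22, 0, 22, 0, 21, 0, 21, 0, 22,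 0, 22, 0, 21, 0, 22, 0, 21, 0, 22, 0, 21, 0, 22, 0, 22], [])]

theorem eJ_14 : ∀ e ∈ eJ_14L, ev s3 e.1 = ev s3 e.2 :=
  rep3.eqB inj base (by decide +kernel)

def eM_0L : List (List Nat × List Nat) :=
  [([13, 1, 0, 1, 13, 7, 13, 1, 0, 1, 13, 7, 13, 1, 0, 1, 13, 6, 13, 1, 0, 1, 13, 6, 6, 13, 1, 0, 1, 13, 13, 1, 0, 1, 13, 6, 6, 13, 1, 0, 1, 13, 7, 13, 1, 0, 1, 13, 6, 13, 1, 0, 1, 13, 6, 13, 1, 0, 1, 13], []),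
   ([13, 1, 0, 1, 13, 6, 6, 13, 1, 0, 1, 13, 7, 13, 1, 0, 1, 13, 6, 13, 1, 0, 1, 13, 6, 13, 1, 0, 1, 13, 13, 1, 0, 1, 13, 7, 13, 1, 0, 1, 13, 7, 13, 1, 0, 1, 13, 6, 13, 1, 0, 1, 13, 6, 6, 13, 1, 0, 1, 13], [])]

theorem eM_0 : ∀ e ∈ eM_0L, ev s3 e.1 = ev s3 e.2 :=
  rep3.eqB inj base (by decide +kernel)

def eM_1L : List (List Nat × List Nat) :=
  [([13, 1, 0, 1, 13, 6, 13, 1, 0, 1, 13, 7, 13, 1, 0, 1, 13, 7, 13, 1, 0, 1, 13, 6, 6, 13, 1, 0, 1, 13, 7, 13, 1, 0, 1, 13, 7, 7, 13, 1, 0, 1, 13, 6, 6, 13, 1, 0, 1, 13, 6, 13, 1, 0, 1, 13, 7, 7, 13, 1, 0, 1, 13, 6, 13, 1, 0, 1, 13, 6, 13, 1, 0, 1, 13, 6, 13, 1, 0, 1, 13, 7, 7, 13, 1, 0, 1, 13, 6, 6], [])]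

theorem eM_1 : ∀ e ∈ eM_1L, ev s3 e.1 = ev s3 e.2 :=
  rep3.eqB inj base (by decide +kernel)

def eM_2L : List (List Nat × List Nat) :=
  [([13, 1, 0, 1, 13, 6, 13, 1, 0, 1, 13, 7, 7, 13, 1, 0, 1, 13, 6, 13, 1, 0, 1, 13, 6, 13, 1, 0, 1, 13, 6, 13, 1, 0, 1, 13, 7, 7, 13, 1, 0, 1, 13, 6, 6, 13, 1, 0, 1, 13, 6, 13, 1, 0, 1, 13, 7, 13, 1, 0, 1, 13, 7, 13, 1, 0, 1, 13, 6, 6, 13, 1, 0, 1, 13, 7, 13, 1, 0, 1, 13, 7, 7, 13, 1, 0, 1, 13, 6, 6], []),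
   ([7, 13, 1, 0, 1, 13, 6, 6, 13, 1, 0, 1, 13, 6, 6, 13, 1, 0, 1, 13, 7, 7, 13, 1, 0, 1, 13, 6, 6, 13, 1, 0, 1, 13, 6, 6, 13, 1, 0, 1, 13, 7], []),
   ([7, 13, 1, 0, 1, 13, 6, 7, 13, 1, 0, 1, 13, 6], [])]

theorem eM_2 : ∀ e ∈ eM_2L, ev s3 e.1 = ev s3 e.2 :=
  rep3.eqB inj base (by decide +kernel)

def eM_3L : List (List Nat × List Nat) :=
  [([6, 13, 1, 0, 1, 13, 7, 6, 13, 1, 0, 1, 13, 7], [])]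

theorem eM_3 : ∀ e ∈ eM_3L, ev s3 e.1 = ev s3 e.2 :=
  rep3.eqB inj base (by decide +kernel)

def eM_4L : List (List Nat × List Nat) :=
  [([13, 1, 0, 1, 13, 7, 13, 1, 0, 1, 13, 7, 13, 1, 0, 1, 13, 6, 13, 1, 0, 1, 13, 6, 6, 13, 1, 0, 1, 13, 13, 1, 0, 1, 13, 7, 13, 1, 0, 1, 13, 7, 13, 1, 0, 1, 13, 6, 13, 1, 0, 1, 13, 6, 6, 13, 1, 0, 1, 13, 13, 1, 0, 1, 13, 6, 13, 1, 0, 1, 13, 7, 7, 13, 1, 0, 1, 13, 6, 13, 1, 0, 1, 13, 6, 13, 1, 0, 1, 13, 6, 13, 1, 0, 1, 13, 7, 7, 13, 1, 0, 1, 13, 6, 6, 13, 1, 0, 1, 13, 6, 13, 1, 0, 1, 13, 7, 7, 13, 1, 0, 1, 13, 6, 13, 1, 0, 1, 13, 6, 13, 1, 0, 1, 13, 6, 13, 1, 0, 1, 13, 7, 7, 13, 1, 0, 1, 13, 6, 6], [])]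

theorem eM_4 : ∀ e ∈ eM_4L, ev s3 e.1 = ev s3 e.2 :=
  rep3.eqB inj base (by decide +kernel)

def eM_5L : List (List Nat × List Nat) :=
  [([13, 1, 0, 1, 13, 7, 13, 1, 0, 1, 13, 7, 13, 1, 0, 1, 13, 6, 13, 1, 0, 1, 13, 6, 6, 13, 1, 0, 1, 13, 13, 1, 0, 1, 13, 6, 13, 1, 0, 1, 13, 7, 13, 1, 0, 1, 13, 7, 13, 1, 0, 1, 13, 6, 6, 13, 1, 0, 1, 13, 7, 13, 1, 0, 1, 13, 7, 7, 13, 1, 0, 1, 13, 6, 6, 13, 1, 0, 1, 13, 6, 6, 13, 1, 0, 1, 13, 7, 13, 1, 0, 1, 13, 6, 13, 1, 0, 1, 13, 6, 13, 1, 0, 1, 13, 13, 1, 0, 1, 13, 6, 13, 1, 0, 1, 13, 7, 13, 1, 0, 1, 13, 7, 13, 1, 0, 1, 13, 6, 6, 13, 1, 0, 1, 13, 7, 13, 1, 0, 1, 13, 7, 7, 13, 1, 0, 1, 13, 6, 6], [])]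

theorem eM_5 : ∀ e ∈ eM_5L, ev s3 e.1 = ev s3 e.2 :=
  rep3.eqB inj base (by decide +kernel)

def eM_6L : List (List Nat × List Nat) :=
  [([13, 1, 0, 1, 13, 7, 13, 1, 0, 1, 13, 7, 13, 1, 0, 1, 13, 6, 13, 1, 0, 1, 13, 6, 6, 13, 1, 0, 1, 13, 13, 1, 0, 1, 13, 6, 13, 1, 0, 1, 13, 7, 13, 1, 0, 1, 13, 7, 13, 1, 0, 1, 13, 6, 6, 13, 1, 0, 1, 13, 7, 13, 1, 0, 1, 13, 7, 7, 13, 1, 0, 1, 13, 6, 6, 7, 13, 1, 0, 1, 13, 6, 6, 13, 1, 0, 1, 13, 6, 6, 13, 1, 0, 1, 13, 7, 13, 1, 0, 1, 13, 6, 13, 1, 0, 1, 13, 7, 13, 1, 0, 1, 13, 7, 13, 1, 0, 1, 13, 6, 6, 13, 1, 0, 1, 13, 7, 13, 1, 0, 1, 13, 7, 7, 13, 1, 0, 1, 13, 6, 6, 7, 13, 1, 0, 1, 13, 6, 6, 13, 1, 0, 1, 13, 6, 6, 13, 1, 0, 1, 13, 7, 13, 1, 0, 1, 13, 6, 6, 13, 1, 0, 1, 13, 7, 13,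 1, 0, 1, 13, 6, 13, 1, 0, 1, 13, 6, 13, 1, 0, 1, 13, 7, 13, 1, 0, 1, 13, 6, 6, 13, 1, 0, 1, 13, 6, 6, 13, 1, 0, 1, 13, 7], [])]

theorem eM_6 : ∀ e ∈ eM_6L, ev s3 e.1 = ev s3 e.2 :=
  rep3.eqB inj base (by decide +kernel)

def eM_7L : List (List Nat × List Nat) :=
  [([13, 1, 0, 1, 13, 7, 13, 1, 0, 1, 13, 7, 13, 1, 0, 1, 13, 6, 13, 1, 0, 1, 13, 6, 6, 13, 1, 0, 1, 13, 13, 1, 0, 1, 13, 6, 13, 1, 0, 1, 13, 7, 7, 13, 1, 0, 1, 13, 6, 13, 1, 0, 1, 13, 6, 13, 1, 0, 1, 13, 6, 13, 1, 0, 1, 13, 7, 7, 13, 1, 0, 1, 13, 6, 6, 7, 13, 1, 0, 1, 13, 6, 13, 1, 0, 1, 13, 6, 13, 1, 0, 1, 13, 7, 7, 13, 1, 0, 1, 13, 6, 13, 1, 0, 1, 13, 6, 13, 1, 0, 1, 13, 6, 13, 1, 0, 1, 13, 7, 7, 13, 1, 0, 1, 13, 6, 6, 7, 13, 1, 0, 1, 13, 6, 13, 1, 0,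 1, 13, 6, 6, 13, 1, 0, 1, 13, 7, 13, 1, 0, 1, 13, 6, 13, 1, 0, 1, 13, 6, 13, 1, 0, 1, 13, 7, 13, 1, 0, 1, 13, 6], [])]

theorem eM_7 : ∀ e ∈ eM_7L, ev s3 e.1 = ev s3 e.2 :=
  rep3.eqB inj base (by decide +kernel)

def eM_8L : List (List Nat × List Nat) :=
  [([13, 1, 0, 1, 13, 7, 13, 1, 0, 1, 13, 7, 13, 1, 0, 1, 13, 6, 13, 1, 0, 1, 13, 6, 6, 13, 1, 0, 1, 13, 13, 1, 0, 1, 13, 6, 13, 1, 0, 1, 13, 7, 13, 1, 0, 1, 13, 7, 13, 1, 0, 1, 13, 6, 6, 13, 1, 0, 1, 13, 7, 13, 1, 0, 1, 13, 7, 7, 13, 1, 0, 1, 13, 6, 6, 7, 13, 1, 0, 1, 13, 6, 6, 13, 1, 0, 1, 13, 6, 6, 13, 1, 0, 1, 13, 7, 13, 1, 0, 1, 13, 6, 6, 13, 1, 0, 1, 13, 7, 13, 1, 0, 1, 13, 6, 13, 1, 0, 1, 13, 6, 13, 1, 0, 1, 13, 7, 13, 1, 0, 1, 13, 6, 13, 1, 0, 1, 13, 6,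 13, 1, 0, 1, 13, 7, 7, 13, 1, 0, 1, 13, 6, 13, 1, 0, 1, 13, 6, 13, 1, 0, 1, 13, 6, 13, 1, 0, 1, 13, 7, 7, 13, 1, 0, 1, 13, 6, 6, 7, 13, 1, 0, 1, 13, 6, 6, 13, 1, 0, 1, 13, 6, 6, 13, 1, 0, 1, 13, 7, 13, 1, 0, 1, 13, 7, 13, 1, 0, 1, 13, 7, 13, 1, 0, 1, 13, 6, 13, 1, 0, 1, 13, 6, 6, 13, 1, 0, 1, 13, 7, 13, 1, 0, 1, 13, 6], [])]

theorem eM_8 : ∀ e ∈ eM_8L, ev s3 e.1 = ev s3 e.2 :=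
  rep3.eqB inj base (by decide +kernel)

def eM_9L : List (List Nat × List Nat) :=
  [([7, 13, 1, 0, 1, 13, 6, 6, 13, 1, 0, 1, 13, 6, 6, 13, 1, 0, 1, 13, 7, 6, 13, 1, 0, 1, 13, 7, 7, 13, 1, 0, 1, 13, 6, 6, 13, 1, 0, 1, 13, 6, 6, 13, 1, 0, 1, 13, 7, 6, 13, 1, 0, 1, 13, 7], []),
   ([7, 13, 1, 0, 1, 13, 6, 6, 13, 1, 0, 1, 13, 7, 7, 13, 1, 0, 1, 13, 6, 6, 13, 1, 0, 1, 13, 7, 7, 13, 1, 0, 1, 13, 6, 6, 13, 1, 0, 1, 13, 7], [])]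

theorem eM_9 : ∀ e ∈ eM_9L, ev s3 e.1 = ev s3 e.2 :=
  rep3.eqB inj base (by decide +kernel)


end Cfsg.Agent.Comp.ON
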